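import Groth.Prelude.Def_Twist2
import Groth.Agent.AmpleLib.Gen
import Mathlib.AlgebraicGeometry.ProjectiveSpectrum.StructureSheaf

/-!
# Generators of the twisting sheaves

If `a ∈ 𝒜 i` and `s ∈ 𝒜 j` vanish nowhere on `U` and `i = j + n`, then `a / s` generates `O(n)` on `U`.
-/

set_option autoImplicit false
universe u

open CategoryTheory CategoryTheory.Limits AlgebraicGeometry TopologicalSpace Opposite TopCat

noncomputable section

namespace TwistLib

variable {R A : Type u} [CommRing R] [CommRing A] [Algebra R A] (𝒜 : ℕ → Submodule R A) [GradedAlgebra 𝒜]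

/-- The data of a fraction of degree `n` invertible on `U`. -/
structure Unit' (n : ℤ) (U : (Proj 𝒜).Opens) where
  i : ℕ
  j : ℕ
  num : A
  den : A
  num_mem : num ∈ 𝒜 i
  den_mem : den ∈ 𝒜 j
  deg : (i : ℤ) = j + n
  num_nin : ∀ x : U, num ∉ x.1.asHomogeneousIdeal
  den_nin : ∀ x : U, den ∉ x.1.asHomogeneousIdeal

variable {𝒜} {n : ℤ} {U : (Proj 𝒜).Opens}

/-- The section given by one fraction. -/
def fracSec {i j : ℕ} {a s : A} (ha : a ∈ 𝒜 i) (hs : s ∈ 𝒜 j) (h : (i : ℤ) = j + n)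
    (hnin : ∀ x : U, s ∉ x.1.asHomogeneousIdeal) : Γ(Twist.twist 𝒜 n, U) :=
  (⟨fun x => ⟨Localization.mk a ⟨s, hnin x⟩,
      Submodule.subset_span ⟨i, j, ⟨a, ha⟩, ⟨s, hs⟩, hnin x, h, rfl⟩⟩,
    fun x => ⟨U, x.2, 𝟙 _, i, j, ⟨a, ha⟩, ⟨s, hs⟩, hnin, Or.inl h, fun _ => rfl⟩⟩ :
      Twist.sectN (𝒜 := 𝒜) n (op U))

/-- The underlying function of a section. -/
def val {V : (Proj 𝒜).Opens} (t : Γ(Twist.twist 𝒜 n, V)) (x : V) : Twist.Loc 𝒜 x.1 :=
  ((show Twist.sectN (𝒜 := 𝒜) n (op V) from t).1 x : Twist.Loc 𝒜 x.1)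

lemma sec_ext {V : (Proj 𝒜).Opens} {t t' : Γ(Twist.twist 𝒜 n, V)} (h : ∀ x, val t x = val t' x) : t = t' :=
  Subtype.ext (funext fun x => Subtype.ext (h x))

lemma val_fracSec {i j : ℕ} {a s : A} (ha : a ∈ 𝒜 i) (hs : s ∈ 𝒜 j) (h : (i : ℤ) = j + n)
    (hnin : ∀ x : U, s ∉ x.1.asHomogeneousIdeal) (x : U) :
    val (fracSec ha hs h hnin) x = Localization.mk a ⟨s, hnin x⟩ := rfl

lemma val_res {V W : (Proj 𝒜).Opens} (h : V ≤ W) (t : Γ(Twist.twist 𝒜 n, W)) (x : V) :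
    val (AmpleLib.res (Twist.twist 𝒜 n) h t) x = val t ⟨x.1, h x.2⟩ := rfl

lemma val_smul {V : (Proj 𝒜).Opens} (r : Γ(Proj 𝒜, V)) (t : Γ(Twist.twist 𝒜 n, V)) (x : V) :
    val (r • t) x = ((show Twist.O (op V) from r).1 x).val * val t x :=
  Twist.coe_smul_val n x.1 _ _

lemma val_exists {V : (Proj 𝒜).Opens} (t : Γ(Twist.twist 𝒜 n, V)) (x : V) :
    ∃ (W : (Proj 𝒜).Opens) (_ : x.1 ∈ W) (hW : W ≤ V) (i j : ℕ) (a s : A) (_ : a ∈ 𝒜 i) (_ : s ∈ 𝒜 j)
      (hnin : ∀ y : W, s ∉ y.1.asHomogeneousIdeal), ((i : ℤ) = j + n ∨ a = 0) ∧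
        ∀ y : W, val t ⟨y.1, hW y.2⟩ = Localization.mk a ⟨s, hnin y⟩ := by
  obtain ⟨W, hxW, ι, i, j, a, s, hnin, hd, hw⟩ := (show Twist.sectN (𝒜 := 𝒜) n (op V) from t).2 x
  exact ⟨W, hxW, ι.le, i, j, a.1, s.1, a.2, s.2, hnin, hd, fun y => hw y⟩

/-- The generator. -/
def Unit'.sec (g : Unit' 𝒜 n U) : Γ(Twist.twist 𝒜 n, U) := fracSec g.num_mem g.den_mem g.deg g.den_nin

open HomogeneousLocalization in
theorem Unit'.genOn (g : Unit' 𝒜 n U) : AmpleLib.GenOn (Twist.twist 𝒜 n) g.sec := by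
  classical
  intro V hV
  refine ⟨fun r r' h => ?_, fun t => ?_⟩
  · refine Subtype.ext (funext fun x => HomogeneousLocalization.val_injective _ ?_)
    have hx := congrArg (fun t => val t x) h
    simp only [val_smul] at hx
    have hu : IsUnit (val (AmpleLib.res (Twist.twist 𝒜 n) hV g.sec) x) := by
      refine isUnit_iff_exists_inv.mpr
        ⟨Localization.mk g.den ⟨g.num, g.num_nin ⟨x.1, hV x.2⟩⟩, ?_⟩
      rw [val_res, Unit'.sec, val_fracSec, Localization.mk_mul, ← Localization.mk_one,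
        Localization.mk_eq_mk_iff, Localization.r_iff_exists]
      exact ⟨1, by simp [mul_comm]⟩
    exact hu.mul_right_cancel hx
  · choose W hxW hW i j a s ha hs hnin hd hval using fun x : V => val_exists t x
    -- the quotient, pointwise
    let r : ∀ y : V, HomogeneousLocalization.AtPrime 𝒜 y.1.asHomogeneousIdeal.toIdeal := fun y =>
      if h : a y = 0 then 0 else
        HomogeneousLocalization.mk ⟨i y + g.j, ⟨a y * g.den, SetLike.mul_mem_graded (ha y) g.den_mem⟩,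
          ⟨s y * g.num, by
            have e : j y + g.i = i y + g.j := by
              rcases hd y with h' | h'
              · have := g.deg; omega
              · exact absurd h' h
            exact e ▸ SetLike.mul_mem_graded (hs y) g.num_mem⟩,
          y.1.asHomogeneousIdeal.toIdeal.primeCompl.mul_mem (hnin y ⟨y.1, hxW y⟩)
            (g.num_nin ⟨y.1, hV y.2⟩)⟩
    have hr : ∀ y : V, (r y).val = val t y *
        Localization.mk g.den ⟨g.num, g.num_nin ⟨y.1, hV y.2⟩⟩ := by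
      intro y
      have e := hval y ⟨y.1, hxW y⟩
      rw [e, Localization.mk_mul]
      by_cases h : a y = 0
      · simp only [r, dif_pos h, h, zero_mul, Localization.mk_zero, val_zero]
      · simp only [r, dif_neg h, val_mk]
        rfl
    have hloc : (ProjectiveSpectrum.StructureSheaf.isLocallyFraction 𝒜).pred r := by
      intro x
      have hWU : ∀ y : W x, g.num ∉ y.1.asHomogeneousIdeal := fun y => g.num_nin ⟨y.1, hV (hW x y.2)⟩
      rcases hd x with h' | h'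
      · have e : j x + g.i = i x + g.j := by have := g.deg; omega
        refine ⟨W x, hxW x, homOfLE (hW x), i x + g.j,
          ⟨a x * g.den, SetLike.mul_mem_graded (ha x) g.den_mem⟩,
          ⟨s x * g.num, e ▸ SetLike.mul_mem_graded (hs x) g.num_mem⟩,
          fun y => y.1.asHomogeneousIdeal.toIdeal.primeCompl.mul_mem (hnin x y) (hWU y), fun y => ?_⟩
        apply HomogeneousLocalization.val_injective
        rw [val_mk]
        refine (hr ⟨y.1, hW x y.2⟩).trans ?_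
        rw [hval x y, Localization.mk_mul]
        rfl
      · refine ⟨W x, hxW x, homOfLE (hW x), 0, 0, ⟨1, SetLike.GradedOne.one_mem⟩,
          fun y hy => y.1.isPrime.ne_top ((Ideal.eq_top_iff_one _).mpr hy), fun y => ?_⟩
        apply HomogeneousLocalization.val_injective
        refine (hr ⟨y.1, hW x y.2⟩).trans ?_
        rw [hval x y, h', Localization.mk_zero, zero_mul, val_mk]
        exact (Localization.mk_zero _).symm
    refine ⟨(⟨r, hloc⟩ : Twist.O (op V)), sec_ext fun y => ?_⟩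
    rw [val_smul, val_res, Unit'.sec, val_fracSec]
    refine Eq.trans (congrArg (· * _) (hr y)) ?_
    rw [mul_assoc, Localization.mk_mul]
    refine Eq.trans (congrArg (val t y * ·) ?_) (mul_one _)
    rw [← Localization.mk_one, Localization.mk_eq_mk_iff, Localization.r_iff_exists]
    exact ⟨1, by simp [mul_comm]⟩

/-- Powers of a degree-`d` fraction. -/
def Unit'.ofPow {d : ℕ} {i j : ℕ} {a b : A} (ha : a ∈ 𝒜 i) (hb : b ∈ 𝒜 j) (hij : i = j + d)
    (han : ∀ x : U, a ∉ x.1.asHomogeneousIdeal) (hbn : ∀ x : U, b ∉ x.1.asHomogeneousIdeal) :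
    ∀ m : ℤ, Unit' 𝒜 (m * d) U
  | (m : ℕ) => ⟨m * i, m * j, a ^ m, b ^ m, by simpa using SetLike.pow_mem_graded m ha,
      by simpa using SetLike.pow_mem_graded m hb, by subst hij; push_cast; ring,
      fun x h => han x (x.1.isPrime.mem_of_pow_mem m h), fun x h => hbn x (x.1.isPrime.mem_of_pow_mem m h)⟩
  | Int.negSucc m => ⟨(m + 1) * j, (m + 1) * i, b ^ (m + 1), a ^ (m + 1),
      by simpa using SetLike.pow_mem_graded (m + 1) hb, by simpa using SetLike.pow_mem_graded (m + 1) ha,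
      by subst hij; rw [Int.negSucc_eq]; push_cast; ring,
      fun x h => hbn x (x.1.isPrime.mem_of_pow_mem (m + 1) h),
      fun x h => han x (x.1.isPrime.mem_of_pow_mem (m + 1) h)⟩

/-- A generator over an open trivialises the restriction. -/
theorem nonempty_iso_of_genOn {X : Scheme.{u}} {M : X.Modules} {U : X.Opens} (σ : Γ(M, U))
    (hσ : AmpleLib.GenOn M σ) : Nonempty (M.restrict U.ι ≅ Coh.structureModule U.toScheme) := by
  have hle : U.ι ''ᵁ ⊤ ≤ U := by rw [Scheme.Opens.ι_image_top]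
  have := AmpleLib.isIso_unitHom _ (hσ.restrict U.ι ⊤ hle)
  exact ⟨(@asIso _ _ _ _ _ this).symm⟩

/-- Generators make a module invertible. -/
theorem isInvertible_of_genOn {X : Scheme.{u}} {ι : Type*} {M : X.Modules} (D : ι → X.Opens)
    (hD : ∀ x : X, ∃ a, x ∈ D a) (e : ∀ a, Γ(M, D a)) (he : ∀ a, AmpleLib.GenOn M (e a)) :
    PicF.IsInvertible M := fun x => by
  obtain ⟨a, ha⟩ := hD x
  exact ⟨D a, ha, nonempty_iso_of_genOn (e a) (he a)⟩

variable (𝒜)

theorem twist_trivial {d i j : ℕ} {a b : A} (ha : a ∈ 𝒜 i) (hb : b ∈ 𝒜 j) (hij : i = j + d) (m : ℤ)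
    (U : (Proj 𝒜).Opens) (han : ∀ x : U, a ∉ x.1.asHomogeneousIdeal)
    (hbn : ∀ x : U, b ∉ x.1.asHomogeneousIdeal) :
    Nonempty ((Twist.twist 𝒜 (m * d)).restrict U.ι ≅ Coh.structureModule U.toScheme) :=
  nonempty_iso_of_genOn _ (Unit'.ofPow ha hb hij han hbn m).genOn

theorem twist_trivial_basicOpen {d : ℕ} {f : A} (hf : f ∈ 𝒜 d) (m : ℤ) :
    Nonempty ((Twist.twist 𝒜 (m * d)).restrict (Proj.basicOpen 𝒜 f).ι ≅
      Coh.structureModule (Proj.basicOpen 𝒜 f).toScheme) :=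
  twist_trivial 𝒜 hf SetLike.GradedOne.one_mem (zero_add d).symm m _ (fun x => x.2)
    (fun x h => x.1.isPrime.ne_top ((Ideal.eq_top_iff_one _).mpr h))

theorem twist_restrict_iSup_isInvertible (d : ℕ) (m : ℤ) :
    PicF.IsInvertible ((Twist.twist 𝒜 (m * d)).restrict (⨆ f : 𝒜 d, Proj.basicOpen 𝒜 (f : A)).ι) := by
  let O := ⨆ f : 𝒜 d, Proj.basicOpen 𝒜 (f : A)
  let g : ∀ f : 𝒜 d, Unit' 𝒜 (m * d) (Proj.basicOpen 𝒜 (f : A)) := fun f =>
    Unit'.ofPow f.2 SetLike.GradedOne.one_mem (zero_add d).symm (fun x => x.2)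
      (fun x h => x.1.isPrime.ne_top ((Ideal.eq_top_iff_one _).mpr h)) m
  have hle : ∀ f : 𝒜 d, O.ι ''ᵁ (O.ι ⁻¹ᵁ Proj.basicOpen 𝒜 (f : A)) ≤ Proj.basicOpen 𝒜 (f : A) :=
    fun f => by rw [Scheme.Hom.image_preimage_eq_opensRange_inf]; exact inf_le_right
  let M := (Twist.twist 𝒜 (m * d)).restrict O.ι
  let e : ∀ f : 𝒜 d, Γ(M, O.ι ⁻¹ᵁ Proj.basicOpen 𝒜 (f : A)) := fun f =>
    AmpleLib.res (Twist.twist 𝒜 (m * d)) (hle f) (g f).sec
  have he : ∀ f, AmpleLib.GenOn M (e f) := fun f => (g f).genOn.restrict O.ι _ (hle f)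
  refine isInvertible_of_genOn (M := M) (fun f : 𝒜 d => O.ι ⁻¹ᵁ Proj.basicOpen 𝒜 (f : A))
    (fun x => ?_) e he
  obtain ⟨f, hf⟩ := Opens.mem_iSup.mp x.2
  exact ⟨f, hf⟩

theorem twist_isInvertible (hcov : ⨆ f : 𝒜 1, Proj.basicOpen 𝒜 (f : A) = ⊤) (m : ℤ) :
    PicF.IsInvertible (Twist.twist 𝒜 m) := by
  have h : m * ((1 : ℕ) : ℤ) = m := by simp
  rw [← h]
  exact isInvertible_of_genOn (fun f : 𝒜 1 => Proj.basicOpen 𝒜 (f : A))
    (fun x => Opens.mem_iSup.mp (show x ∈ ⨆ f : 𝒜 1, Proj.basicOpen 𝒜 (f : A) from hcov ▸ trivial))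
    (fun f => (Unit'.ofPow f.2 SetLike.GradedOne.one_mem rfl (fun x => x.2)
      (fun x h => x.1.isPrime.ne_top ((Ideal.eq_top_iff_one _).mpr h)) m).sec)
    (fun f => Unit'.genOn _)

/-- Irrelevant ideal generated by degree-one elements: their basic opens cover. -/
theorem iSup_basicOpen_eq_top_of_span {ι : Type*} (t : ι → A)
    (hs : (HomogeneousIdeal.irrelevant 𝒜).toIdeal ≤ Ideal.span (Set.range t)) :
    ⨆ i, Proj.basicOpen 𝒜 (t i) = ⊤ :=
  Proj.iSup_basicOpen_eq_top 𝒜 t hs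

/-- The value of a global fraction at a point. -/
theorem genAt_globalOf {i : ℕ} (a : 𝒜 i) {x : Proj 𝒜} {U : (Proj 𝒜).Opens} (g : Unit' 𝒜 (i : ℤ) U)
    (hx : x ∈ U) :
    AmpleLib.GenAt (Twist.twist 𝒜 (i : ℤ)) (W := ⊤) (Twist.globalOf 𝒜 a) (show x ∈ (⊤ : (Proj 𝒜).Opens) from trivial) ↔
      a.1 ∉ x.asHomogeneousIdeal := by
  rw [← AmpleLib.genAt_res (le_top : U ≤ ⊤) _ hx]
  obtain ⟨r, hr⟩ := (g.genOn U le_rfl).2 (AmpleLib.res (Twist.twist 𝒜 (i : ℤ)) (le_top : U ≤ ⊤) (Twist.globalOf 𝒜 a))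
  dsimp only at hr
  rw [AmpleLib.res_refl] at hr
  rw [← hr, AmpleLib.genAt_smul_iff r g.sec hx (g.genOn.genAt hx), Scheme.mem_basicOpen _ r x hx]
  have hv := congrArg (fun t => val t (⟨x, hx⟩ : U)) hr
  simp only [val_smul] at hv
  rw [Unit'.sec, val_fracSec] at hv
  have key : IsUnit ((Proj 𝒜).presheaf.germ U x hx r) ↔
      IsUnit ((show Twist.O (op U) from r).1 ⟨x, hx⟩) :=
    (MulEquiv.isUnit_map (Proj.stalkIso' 𝒜 x)).symm.trans
      (Iff.of_eq (congrArg IsUnit (Proj.stalkIso'_germ 𝒜 U x hx r)))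
  rw [key]
  constructor
  · intro hu
    have h2 : IsUnit (Localization.mk a.1 (1 : x.asHomogeneousIdeal.toIdeal.primeCompl)) := by
      have e : Localization.mk a.1 (1 : x.asHomogeneousIdeal.toIdeal.primeCompl) =
          val (AmpleLib.res (Twist.twist 𝒜 (i : ℤ)) (le_top : U ≤ ⊤) (Twist.globalOf 𝒜 a)) ⟨x, hx⟩ := rfl
      rw [e, ← hv]
      exact (hu.map (algebraMap _ (Twist.Loc 𝒜 x))).mul (isUnit_iff_exists_inv.mpr
        ⟨Localization.mk g.den ⟨g.num, g.num_nin ⟨x, hx⟩⟩, by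
          rw [Localization.mk_mul, ← Localization.mk_one, Localization.mk_eq_mk_iff, Localization.r_iff_exists]
          exact ⟨1, by simp [mul_comm]⟩⟩)
    rw [Localization.mk_one_eq_algebraMap, IsLocalization.AtPrime.isUnit_to_map_iff (Twist.Loc 𝒜 x)
      x.asHomogeneousIdeal.toIdeal] at h2
    exact h2
  · intro ha
    refine (HomogeneousLocalization.isUnit_iff_isUnit_val 𝒜 x.asHomogeneousIdeal.toIdeal _).mp ?_
    have h2 : IsUnit (Localization.mk a.1 (1 : x.asHomogeneousIdeal.toIdeal.primeCompl)) := by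
      rw [Localization.mk_one_eq_algebraMap, IsLocalization.AtPrime.isUnit_to_map_iff (Twist.Loc 𝒜 x)
        x.asHomogeneousIdeal.toIdeal]
      exact ha
    have h3 : IsUnit (((show Twist.O (op U) from r).1 ⟨x, hx⟩).val *
        Localization.mk g.num ⟨g.den, g.den_nin ⟨x, hx⟩⟩) := by
      refine hv ▸ ?_
      exact h2
    exact isUnit_of_mul_isUnit_left h3

end TwistLib

end
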