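import Groth.Agent.TwistLib.Basic
import Groth.Agent.ProjQuotLib.Chart
import Groth.Agent.RelProjLib.PtGraded

/-!
# `ptG` on sections, and fractions of degree zero acting on `O(1)`
-/

set_option autoImplicit false
universe u

open CategoryTheory CategoryTheory.Limits AlgebraicGeometry TopologicalSpace Opposite TopCat
open HomogeneousLocalization RelProjLib

noncomputable section

namespace TwistLib

variable {R A : Type u} [CommRing R] [CommRing A] [Algebra R A] (𝒜 : ℕ → Submodule R A) [GradedAlgebra 𝒜]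
variable {Y : Scheme.{u}}

lemma ptG_le (φ : A →+* Γ(Y, ⊤)) {t : A} {d : ℕ} (ht : t ∈ 𝒜 d) (hd : 0 < d) (hu : IsUnit (φ t)) :
    ⊤ ≤ ptG 𝒜 φ ht hd hu ⁻¹ᵁ Proj.basicOpen 𝒜 t := by
  rw [ptG_preimage 𝒜 φ ht hd hu ht hd, Y.basicOpen_of_isUnit hu]

/-- `ptG` on the sections over the chart -/
theorem ptG_appLE (φ : A →+* Γ(Y, ⊤)) {t : A} {d : ℕ} (ht : t ∈ 𝒜 d) (hd : 0 < d) (hu : IsUnit (φ t))
    (h : ⊤ ≤ ptG 𝒜 φ ht hd hu ⁻¹ᵁ Proj.basicOpen 𝒜 t) (z : Away 𝒜 t) :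
    (ptG 𝒜 φ ht hd hu).appLE (Proj.basicOpen 𝒜 t) ⊤ h (Proj.awayToSection 𝒜 t z) =
      awayLift 𝒜 φ t hu z := by
  have h1 := Groth.Agent.ProjQuot.awayι_le_preimage (𝒜 := 𝒜) ht hd
  have e := Scheme.Hom.appLE_comp_appLE (ChowLib.toSpecOf (awayLift 𝒜 φ t hu))
    (Proj.awayι 𝒜 t ht hd) (Proj.basicOpen 𝒜 t) ⊤ ⊤ h1 (by simp)
  have e2 : (ChowLib.toSpecOf (awayLift 𝒜 φ t hu)).appLE ⊤ ⊤ (by simp) =
      (Scheme.ΓSpecIso (CommRingCat.of (Away 𝒜 t))).hom ≫ CommRingCat.ofHom (awayLift 𝒜 φ t hu) := by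
    simp [ChowLib.toSpecOf, Scheme.Hom.appLE]
  change ((ChowLib.toSpecOf (awayLift 𝒜 φ t hu) ≫ Proj.awayι 𝒜 t ht hd).appLE
    (Proj.basicOpen 𝒜 t) ⊤ h) (Proj.awayToSection 𝒜 t z) = _
  rw [← e, CommRingCat.comp_apply, ← CommRingCat.comp_apply (Proj.awayToSection 𝒜 t),
    Groth.Agent.ProjQuot.awayι_appLE_awayToSection ht hd, e2, CommRingCat.comp_apply,
    ← CommRingCat.comp_apply (Scheme.ΓSpecIso _).inv, Iso.inv_hom_id]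
  rfl

/-- `ptG` in terms of a map defined on an open piece -/
theorem appLE_of_ι_comp {X : Scheme.{u}} (r : X ⟶ Proj 𝒜) {U : X.Opens} (φ : A →+* Γ(X, U))
    {t : A} {d : ℕ} (ht : t ∈ 𝒜 d) (hd : 0 < d) (hu : IsUnit (φ t))
    (hr : U.ι ≫ r = ptG 𝒜 (U.topIso.inv.hom.comp φ) ht hd (hu.map U.topIso.inv.hom))
    (h : U ≤ r ⁻¹ᵁ Proj.basicOpen 𝒜 t) (z : Away 𝒜 t) :
    r.appLE (Proj.basicOpen 𝒜 t) U h (Proj.awayToSection 𝒜 t z) = awayLift 𝒜 φ t hu z := by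
  apply (ConcreteCategory.bijective_of_isIso U.topIso.inv).1
  have h2 : ⊤ ≤ U.ι ⁻¹ᵁ U := by simp
  have h3 : ⊤ ≤ (U.ι ≫ r) ⁻¹ᵁ Proj.basicOpen 𝒜 t := fun x _ => h x.2
  have e : U.ι.appLE U ⊤ h2 = U.topIso.inv := by
    simp [Scheme.Hom.appLE, Scheme.Opens.topIso_inv]
    erw [← Functor.map_comp]
    rfl
  refine Eq.trans ?_ (RingHom.congr_fun (comp_awayLift 𝒜 U.topIso.inv.hom φ ht hu) z).symm
  rw [← CommRingCat.comp_apply]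
  conv_lhs => rw [← e, Scheme.Hom.appLE_comp_appLE U.ι r _ _ _ h h2]
  have key : ∀ (g : U.toScheme ⟶ Proj 𝒜) (hg : g = U.ι ≫ r) (h4 : ⊤ ≤ g ⁻¹ᵁ Proj.basicOpen 𝒜 t),
      (U.ι ≫ r).appLE (Proj.basicOpen 𝒜 t) ⊤ h3 = g.appLE (Proj.basicOpen 𝒜 t) ⊤ h4 := by
    intro g hg h4
    subst hg
    rfl
  rw [key _ hr.symm (ptG_le 𝒜 _ ht hd _)]
  exact ptG_appLE 𝒜 _ ht hd _ _ z

/-- the fraction `a / t` of two elements of degree one -/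
abbrev frac {t : A} (ht : t ∈ 𝒜 1) {a : A} (ha : a ∈ 𝒜 1) : Away 𝒜 t :=
  Away.mk 𝒜 ht 1 a (by rwa [one_smul])

lemma awayLift_frac {T : Type u} [CommRing T] (φ : A →+* T) {t : A} (ht : t ∈ 𝒜 1) {a : A}
    (ha : a ∈ 𝒜 1) (hu : IsUnit (φ t)) :
    awayLift 𝒜 φ t hu (frac 𝒜 ht ha) * φ t = φ a := by
  simpa using awayLift_mk 𝒜 φ ht hu 1 a (by rwa [one_smul])

/-- `a/1 = (a/t) (t/1)` on `D₊(t)` -/
theorem frac_smul_globalOf {t : A} (ht : t ∈ 𝒜 1) {a : A} (ha : a ∈ 𝒜 1) :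
    (show Γ(Proj 𝒜, Proj.basicOpen 𝒜 t) from Proj.awayToSection 𝒜 t (frac 𝒜 ht ha)) •
      AmpleLib.res (Twist.twist 𝒜 ((1 : ℕ) : ℤ)) (le_top : Proj.basicOpen 𝒜 t ≤ ⊤)
        (Twist.globalOf 𝒜 ⟨t, ht⟩) =
      AmpleLib.res (Twist.twist 𝒜 ((1 : ℕ) : ℤ)) (le_top : Proj.basicOpen 𝒜 t ≤ ⊤)
        (Twist.globalOf 𝒜 ⟨a, ha⟩) := by
  classical
  refine sec_ext fun x => ?_
  rw [val_smul, val_res, val_res]
  erw [ProjectiveSpectrum.Proj.awayToSection_apply]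
  rw [Away.val_mk, Localization.mk_eq_mk', IsLocalization.map_mk']
  change IsLocalization.mk' (Twist.Loc 𝒜 x.1) a _ * Localization.mk t _ = Localization.mk a _
  rw [← Localization.mk_eq_mk', Localization.mk_mul, Localization.mk_eq_mk_iff, Localization.r_iff_exists]
  exact ⟨1, by simp [mul_comm]⟩

theorem globalOf_genOn {t : A} (ht : t ∈ 𝒜 1) :
    AmpleLib.GenOn (Twist.twist 𝒜 ((1 : ℕ) : ℤ))
      (AmpleLib.res (Twist.twist 𝒜 ((1 : ℕ) : ℤ)) (le_top : Proj.basicOpen 𝒜 t ≤ ⊤)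
        (Twist.globalOf 𝒜 ⟨t, ht⟩)) :=
  Unit'.genOn ⟨1, 0, t, 1, ht, SetLike.GradedOne.one_mem, by simp, fun x => x.2,
    fun x h => x.1.isPrime.ne_top ((Ideal.eq_top_iff_one _).mpr h)⟩

end TwistLib

end
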