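import Groth.Agent.RelProjLib.PtGraded
import Mathlib.LinearAlgebra.SymmetricAlgebra.Basic

/-!
# Graded symmetric algebras
-/

set_option autoImplicit false
universe u

open HomogeneousLocalization RelProjLib

noncomputable section

namespace TwistLib

variable {A : Type u} [CommRing A] {S : Type u} [CommRing S] [Algebra A S] (𝒮 : ℕ → Submodule A S)
  [GradedAlgebra 𝒮] {M : Type u} [AddCommGroup M] [Module A M] (ι : M →ₗ[A] S)

lemma pow_range_le (hι : ∀ m : M, ι m ∈ 𝒮 1) (k : ℕ) : LinearMap.range ι ^ k ≤ 𝒮 k := by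
  induction k with
  | zero =>
    rw [pow_zero, Submodule.one_le]
    exact SetLike.GradedOne.one_mem
  | succ k ih =>
    rw [pow_succ]
    refine Submodule.mul_le.mpr fun a ha b hb => ?_
    obtain ⟨m, rfl⟩ := hb
    exact SetLike.mul_mem_graded (ih ha) (hι m)

/-- the graded pieces are the powers of the image -/
theorem eq_pow_range (hι : ∀ m : M, ι m ∈ 𝒮 1) (hsym : IsSymmetricAlgebra ι) (k : ℕ) :
    𝒮 k = LinearMap.range ι ^ k := by
  classical
  let P : ℕ → Submodule A S := fun j => LinearMap.range ι ^ j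
  have htop : (⨆ j, P j) = ⊤ := by
    refine eq_top_iff.mpr fun a _ => ?_
    induction a using hsym.induction with
    | algebraMap r =>
      refine Submodule.mem_iSup_of_mem 0 ?_
      change algebraMap A S r ∈ LinearMap.range ι ^ 0
      rw [pow_zero]
      exact Submodule.mem_one.mpr ⟨r, rfl⟩
    | ι x =>
      refine Submodule.mem_iSup_of_mem 1 ?_
      change ι x ∈ LinearMap.range ι ^ 1
      rw [pow_one]
      exact ⟨x, rfl⟩
    | mul a b ha hb =>
      have h : (⨆ j, P j) * (⨆ j, P j) ≤ ⨆ j, P j := by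
        simp only [Submodule.iSup_mul, Submodule.mul_iSup]
        exact iSup_le fun i => iSup_le fun j => le_iSup_of_le (i + j) (le_of_eq (by simp only [P, pow_add]; ac_rfl))
      exact h (Submodule.mul_mem_mul (ha trivial) (hb trivial))
    | add a b ha hb => exact add_mem (ha trivial) (hb trivial)
  have hind : iSupIndep 𝒮 := (DirectSum.Decomposition.isInternal 𝒮).submodule_iSupIndep
  refine le_antisymm ?_ (pow_range_le 𝒮 ι hι k)
  have hsplit : (⨆ j, P j) ≤ P k ⊔ ⨆ (j) (_ : j ≠ k), 𝒮 j := by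
    refine iSup_le fun j => ?_
    by_cases h : j = k
    · subst h; exact le_sup_left
    · exact le_sup_of_le_right (le_iSup₂_of_le j h (pow_range_le 𝒮 ι hι j))
  calc 𝒮 k = (P k ⊔ ⨆ (j) (_ : j ≠ k), 𝒮 j) ⊓ 𝒮 k := by
        rw [inf_eq_right.mpr (le_top.trans (htop.ge.trans hsplit))]
    _ = P k ⊔ (⨆ (j) (_ : j ≠ k), 𝒮 j) ⊓ 𝒮 k := sup_inf_assoc_of_le _ (pow_range_le 𝒮 ι hι k)
    _ = P k := by rw [inf_comm, disjoint_iff.mp (hind k), sup_bot_eq]
    _ ≤ LinearMap.range ι ^ k := le_rfl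

variable {T : Type u} [CommRing T]

/-- homogeneous scaling -/
theorem hom_scale (hι : ∀ m : M, ι m ∈ 𝒮 1) (hsym : IsSymmetricAlgebra ι) (φ ψ : S →+* T) (c : T)
    (h0 : ∀ a : A, ψ (algebraMap A S a) = φ (algebraMap A S a))
    (h1 : ∀ x : M, ψ (ι x) = c * φ (ι x)) {k : ℕ} {a : S} (ha : a ∈ 𝒮 k) :
    ψ a = c ^ k * φ a := by
  rw [eq_pow_range 𝒮 ι hι hsym k] at ha
  induction ha using Submodule.pow_induction_on_left' with
  | algebraMap r => simp [h0]
  | add x y i hx hy ihx ihy => rw [map_add, map_add, ihx, ihy, mul_add]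
  | mem_mul m hm i x hx ihx =>
    obtain ⟨m, rfl⟩ := hm
    rw [map_mul, map_mul, h1, ihx, pow_succ]
    ring

/-- maps out of a chart are determined by the fractions of degree one -/
theorem away_hom_ext (hι : ∀ m : M, ι m ∈ 𝒮 1) (hsym : IsSymmetricAlgebra ι) (m : M)
    (f g : Away 𝒮 (ι m) →+* T)
    (h0 : ∀ (a : A) (ha : algebraMap A S a ∈ 𝒮 (0 • 1)),
      f (Away.mk 𝒮 (hι m) 0 (algebraMap A S a) ha) = g (Away.mk 𝒮 (hι m) 0 (algebraMap A S a) ha))
    (h1 : ∀ (x : M) (hx : ι x ∈ 𝒮 (1 • 1)),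
      f (Away.mk 𝒮 (hι m) 1 (ι x) hx) = g (Away.mk 𝒮 (hι m) 1 (ι x) hx)) :
    f = g := by
  refine RelProjLib.away_ext 𝒮 (hι m) fun k a ha => ?_
  have ha' : a ∈ LinearMap.range ι ^ k := by
    rw [← eq_pow_range 𝒮 ι hι hsym k]
    simpa using ha
  revert ha
  induction ha' using Submodule.pow_induction_on_left' with
  | algebraMap r => exact h0 r
  | add x y i hx hy ihx ihy =>
    intro hxy
    have mx : x ∈ 𝒮 (i • 1) := by simpa using pow_range_le 𝒮 ι hι i hx
    have my : y ∈ 𝒮 (i • 1) := by simpa using pow_range_le 𝒮 ι hι i hy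
    have e : Away.mk 𝒮 (hι m) i (x + y) hxy =
        Away.mk 𝒮 (hι m) i x mx + Away.mk 𝒮 (hι m) i y my :=
      HomogeneousLocalization.val_injective _ (by
        rw [HomogeneousLocalization.val_add, Away.val_mk, Away.val_mk, Away.val_mk, Localization.add_mk_self])
    rw [e, map_add, map_add, ihx mx, ihy my]
  | mem_mul z hz i x hx ihx =>
    obtain ⟨z, rfl⟩ := hz
    intro hzx
    have mx : x ∈ 𝒮 (i • 1) := by simpa using pow_range_le 𝒮 ι hι i hx
    have mz : ι z ∈ 𝒮 (1 • 1) := by simpa using hι z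
    have e : Away.mk 𝒮 (hι m) (i + 1) (ι z * x) hzx =
        Away.mk 𝒮 (hι m) 1 (ι z) mz * Away.mk 𝒮 (hι m) i x mx :=
      HomogeneousLocalization.val_injective _ (by
        rw [HomogeneousLocalization.val_mul, Away.val_mk, Away.val_mk, Away.val_mk, Localization.mk_mul]
        congr 1
        exact Subtype.ext (by simp [pow_succ']))
    rw [e, map_mul, map_mul, h1 z mz, ihx mx]

/-- the image generates the irrelevant ideal -/
theorem irrelevant_le (hι : ∀ m : M, ι m ∈ 𝒮 1) (hsym : IsSymmetricAlgebra ι) :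
    (HomogeneousIdeal.irrelevant 𝒮).toIdeal ≤ Ideal.span (Set.range fun m => ι m) := by
  classical
  intro a ha
  replace ha := (HomogeneousIdeal.mem_irrelevant_iff 𝒮 a).mp ha
  rw [← DirectSum.sum_support_decompose 𝒮 a]
  refine Ideal.sum_mem _ fun k hk => ?_
  have hk0 : k ≠ 0 := fun h => by
    subst h
    refine DFinsupp.mem_support_iff.mp hk (Subtype.ext ?_)
    exact ha
  obtain ⟨j, rfl⟩ := Nat.exists_eq_succ_of_ne_zero hk0
  have hm : (DirectSum.decompose 𝒮 a (j + 1) : S) ∈ LinearMap.range ι ^ (j + 1) := by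
    rw [← eq_pow_range 𝒮 ι hι hsym]
    exact Subtype.coe_prop _
  have hle : LinearMap.range ι ^ (j + 1) ≤
      (Ideal.span (Set.range fun m => ι m)).restrictScalars A := by
    rw [pow_succ]
    refine Submodule.mul_le.mpr fun x _ y hy => ?_
    obtain ⟨m, rfl⟩ := hy
    exact Ideal.mul_mem_left _ _ (Ideal.subset_span ⟨m, rfl⟩)
  exact hle hm

end TwistLib

end
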