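import Groth.Agent.TwistLib.PullGen
import Groth.Agent.TwistLib.PtApp
import Groth.Agent.TwistLib.SymPow
import Groth.Prelude.Def_ProjUP

/-!
# The universal property of `Proj` of a symmetric algebra: uniqueness
-/

set_option autoImplicit false
universe u

open CategoryTheory CategoryTheory.Limits AlgebraicGeometry TopologicalSpace Opposite
open HomogeneousLocalization RelProjLib AmpleLib

noncomputable section

namespace TwistLib

variable {X Y : Scheme.{u}}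

lemma puSec_res (f : X ⟶ Y) {M : Y.Modules} {U V : Y.Opens} (h : V ≤ U) (m : Γ(M, U)) :
    KFlatLib.puSec f (res M h m) = res (KFlatLib.pb f M) (f.preimage_mono h) (KFlatLib.puSec f m) :=
  NatTrans.naturality_apply
    ((Scheme.Modules.pullbackPushforwardAdjunction f).unit.app M).mapPresheaf (homOfLE h).op m

lemma puSec_smul (f : X ⟶ Y) {M : Y.Modules} {U : Y.Opens} (c : Γ(Y, U)) (m : Γ(M, U)) :
    KFlatLib.puSec f (c • m) = (show Γ(X, f ⁻¹ᵁ U) from f.app U c) • KFlatLib.puSec f m :=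
  Scheme.Modules.Hom.app_smul ((Scheme.Modules.pullbackPushforwardAdjunction f).unit.app M) c m

/-- the inverse image of a section generates exactly over where it generates -/
theorem genAt_puSec_iff (f : X ⟶ Y) {M : Y.Modules} {U : Y.Opens} {e : Γ(M, U)} (he : GenOn M e)
    (σ : Γ(M, ⊤)) {x : X} (hx : f x ∈ U) :
    GenAt (KFlatLib.pb f M) (W := f ⁻¹ᵁ ⊤) (KFlatLib.puSec f σ) (show x ∈ f ⁻¹ᵁ ⊤ from trivial) ↔
      GenAt M σ (show f x ∈ (⊤ : Y.Opens) from trivial) := by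
  obtain ⟨c, hc⟩ := (he U le_rfl).2 (res M le_top σ)
  dsimp only at hc
  rw [res_refl] at hc
  rw [← genAt_res (f.preimage_mono (le_top : U ≤ ⊤)) (KFlatLib.puSec f σ) (show x ∈ f ⁻¹ᵁ U from hx),
    ← puSec_res f (le_top : U ≤ ⊤), ← hc, puSec_smul, genAt_smul_iff _ _ (show x ∈ f ⁻¹ᵁ U from hx) (GenAt.puSec f (he.genAt hx)),
    ← Scheme.preimage_basicOpen, ← genAt_res (le_top : U ≤ ⊤) σ hx, ← hc,
    genAt_smul_iff c e hx (he.genAt hx)]
  rfl

/-- isomorphisms preserve generators -/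
theorem genAt_app_iso {M N : X.Modules} (τ : M ≅ N) {W : X.Opens} (σ : Γ(M, W)) {x : X} (hx : x ∈ W) :
    GenAt N (τ.hom.app W σ) hx ↔ GenAt M σ hx := by
  let f := ((DerSch.stalkFunctor X x).map τ.hom).hom
  have hf : Function.Bijective f := ConcreteCategory.bijective_of_isIso ((DerSch.stalkFunctor X x).map τ.hom)
  have e : (fun c : X.presheaf.stalk x => c • N.presheaf.germ W x hx (τ.hom.app W σ)) =
      ⇑f ∘ fun c : X.presheaf.stalk x => c • M.presheaf.germ W x hx σ :=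
    funext fun c => ((f.map_smul c _).trans
      (congrArg (c • ·) (DerSch.stalkFunctor_map_germ x τ.hom W hx σ))).symm
  rw [GenAt, e]
  exact Function.Bijective.of_comp_iff' hf _

namespace SymUP

variable {A : Type u} [CommRing A] {S : Type u} [CommRing S] [Algebra A S] (𝒮 : ℕ → Submodule A S)
  [GradedAlgebra 𝒮] {M : Type u} [AddCommGroup M] [Module A M] (ι : M →ₗ[A] S) (hι : ∀ m : M, ι m ∈ 𝒮 1)
  (hsym : IsSymmetricAlgebra ι)

include hι hsym in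
theorem iSup_D : ⨆ m, Proj.basicOpen 𝒮 (ι m) = ⊤ :=
  Proj.iSup_basicOpen_eq_top 𝒮 _ (irrelevant_le 𝒮 ι hι hsym)

include hι hsym in
theorem iSup_D_of_span {G : Set M} (hG : Submodule.span A G = ⊤) :
    ⨆ m : G, Proj.basicOpen 𝒮 (ι (m : M)) = ⊤ := by
  refine Proj.iSup_basicOpen_eq_top 𝒮 _ ((irrelevant_le 𝒮 ι hι hsym).trans (Ideal.span_le.mpr ?_))
  rintro _ ⟨m, rfl⟩
  have h : Submodule.span A G ≤
      ((Ideal.span (Set.range fun m : G => ι (m : M))).restrictScalars A).comap ι :=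
    Submodule.span_le.mpr fun y hy => Ideal.subset_span ⟨⟨y, hy⟩, rfl⟩
  exact h (hG ▸ Submodule.mem_top)

include hι hsym in
/-- the pulled back section generates over the chart -/
theorem genAt_pull_iff (r : X ⟶ Proj 𝒮) (m : M) (x : X) :
    GenAt (KFlatLib.pb r (Twist.twist 𝒮 ((1 : ℕ) : ℤ))) (W := r ⁻¹ᵁ ⊤)
      (KFlatLib.puSec r (U := ⊤) (Twist.globalOf 𝒮 ⟨ι m, hι m⟩)) (show x ∈ r ⁻¹ᵁ ⊤ from trivial) ↔
      r x ∈ Proj.basicOpen 𝒮 (ι m) := by
  obtain ⟨b, hb⟩ := Opens.mem_iSup.mp (show r x ∈ ⨆ m, Proj.basicOpen 𝒮 (ι m) by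
    rw [iSup_D 𝒮 ι hι hsym]; trivial)
  rw [genAt_puSec_iff r (globalOf_genOn 𝒮 (hι b)) _ hb]
  exact genAt_globalOf 𝒮 ⟨ι m, hι m⟩ (U := Proj.basicOpen 𝒮 (ι b))
    ⟨1, 0, ι b, 1, hι b, SetLike.GradedOne.one_mem, by simp, fun z => z.2,
      fun z h => z.1.isPrime.ne_top ((Ideal.eq_top_iff_one _).mpr h)⟩ hb

variable (r : X ⟶ Proj 𝒮) (m : M) {U : X.Opens} (hU : U ≤ r ⁻¹ᵁ Proj.basicOpen 𝒮 (ι m))

/-- the chart of `r` -/
def chartHom : U.toScheme ⟶ Spec (CommRingCat.of (Away 𝒮 (ι m))) :=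
  r.resLE _ U hU ≫ Proj.basicOpenToSpec 𝒮 (ι m)

/-- the functions of the chart of `r` -/
def chartFun : Away 𝒮 (ι m) →+* Γ(U.toScheme, ⊤) :=
  ((Proj.awayToSection 𝒮 (ι m)) ≫ r.appLE _ U hU ≫ U.topIso.inv).hom

lemma chartHom_eq : chartHom 𝒮 ι r m hU = ChowLib.toSpecOf (chartFun 𝒮 ι r m hU) := by
  have h1 : chartHom 𝒮 ι r m hU = ChowLib.toSpecOf
      ((Scheme.ΓSpecIso (CommRingCat.of (Away 𝒮 (ι m)))).inv ≫ (chartHom 𝒮 ι r m hU).appTop).hom := by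
    simp [ChowLib.toSpecOf, ← Scheme.toSpecΓ_naturality_assoc]
  refine h1.trans (congrArg ChowLib.toSpecOf (congrArg CommRingCat.Hom.hom ?_))
  rw [chartHom, Scheme.Hom.comp_appTop, Scheme.Hom.appTop, Proj.basicOpenToSpec_app_top,
    Scheme.Hom.appTop, Scheme.Hom.resLE_app_top]
  simp only [Category.assoc, Iso.inv_hom_id_assoc]

include hι in
lemma ι_comp_eq :
    U.ι ≫ r = chartHom 𝒮 ι r m hU ≫ Proj.awayι 𝒮 (ι m) (hι m) one_pos := by
  rw [chartHom, Category.assoc, ← Proj.basicOpenIsoSpec_hom 𝒮 (ι m) (hι m) one_pos,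
    ← Proj.basicOpenIsoSpec_inv_ι 𝒮 (ι m) (hι m) one_pos, Iso.hom_inv_id_assoc, Scheme.Hom.resLE_comp_ι]

variable (r' : X ⟶ Proj 𝒮)

include hι hsym in
theorem ext_of_τ
    (hrr' : r ≫ Proj.toSpecZero 𝒮 ≫ Spec.map (CommRingCat.ofHom (algebraMap A (𝒮 0))) =
      r' ≫ Proj.toSpecZero 𝒮 ≫ Spec.map (CommRingCat.ofHom (algebraMap A (𝒮 0))))
    {G : Set M} (hG : Submodule.span A G = ⊤)
    (τ : KFlatLib.pb r (Twist.twist 𝒮 ((1 : ℕ) : ℤ)) ≅ KFlatLib.pb r' (Twist.twist 𝒮 ((1 : ℕ) : ℤ)))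
    (hτ : ∀ x ∈ G, τ.hom.app ⊤ (KFlatLib.puSec r
        (show Γ(Twist.twist 𝒮 ((1 : ℕ) : ℤ), ⊤) from Twist.globalOf 𝒮 ⟨ι x, hι x⟩)) =
      KFlatLib.puSec r' (show Γ(Twist.twist 𝒮 ((1 : ℕ) : ℤ), ⊤) from Twist.globalOf 𝒮 ⟨ι x, hι x⟩)) :
    r = r' := by
  let O1 := Twist.twist 𝒮 ((1 : ℕ) : ℤ)
  let glob : M → Γ(O1, ⊤) := fun x => Twist.globalOf 𝒮 ⟨ι x, hι x⟩
  let D : M → (Proj 𝒮).Opens := fun x => Proj.basicOpen 𝒮 (ι x)
  have hpre : ∀ x ∈ G, r ⁻¹ᵁ D x = r' ⁻¹ᵁ D x := fun x hx => by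
    ext z
    change r z ∈ D x ↔ r' z ∈ D x
    rw [← genAt_pull_iff 𝒮 ι hι hsym r x z, ← genAt_pull_iff 𝒮 ι hι hsym r' x z, ← hτ x hx]
    exact (genAt_app_iso τ (W := ⊤) _ _).symm
  refine X.openCoverOfIsOpenCover (fun x : G => r ⁻¹ᵁ D x.1) ?_ |>.hom_ext _ _ fun m' => ?_
  · exact TopologicalSpace.IsOpenCover.mk (by
      rw [← Scheme.Hom.preimage_iSup, iSup_D_of_span 𝒮 ι hι hsym hG]; rfl)
  obtain ⟨m, hm⟩ := m'
  change (r ⁻¹ᵁ D m).ι ≫ r = (r ⁻¹ᵁ D m).ι ≫ r'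
  let U := r ⁻¹ᵁ D m
  have hU : U ≤ r ⁻¹ᵁ D m := le_rfl
  have hU' : U ≤ r' ⁻¹ᵁ D m := (hpre m hm).le
  rw [ι_comp_eq 𝒮 ι hι r m hU, ι_comp_eq 𝒮 ι hι r' m hU']
  congr 1
  rw [chartHom_eq, chartHom_eq]
  congr 1
  have hconst : ∀ (a : A) (ha : algebraMap A S a ∈ 𝒮 (0 • 1)),
      chartFun 𝒮 ι r m hU (Away.mk 𝒮 (hι m) 0 (algebraMap A S a) ha) =
        chartFun 𝒮 ι r' m hU' (Away.mk 𝒮 (hι m) 0 (algebraMap A S a) ha) := fun a ha => by
    let g : A →+* Away 𝒮 (ι m) := (fromZeroRingHom 𝒮 (Submonoid.powers (ι m))).comp (algebraMap A (𝒮 0))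
    have hg : Away.mk 𝒮 (hι m) 0 (algebraMap A S a) ha = g a :=
      HomogeneousLocalization.val_injective _ (by
        simp [g, fromZeroRingHom, Away.val_mk])
    rw [hg]
    refine RingHom.congr_fun (f := (chartFun 𝒮 ι r m hU).comp g) (g := (chartFun 𝒮 ι r' m hU').comp g)
      (ChowLib.toSpecOf_injective ?_) a
    have h1 : U.ι ≫ r ≫ Proj.toSpecZero 𝒮 ≫ Spec.map (CommRingCat.ofHom (algebraMap A (𝒮 0))) =
        U.ι ≫ r' ≫ Proj.toSpecZero 𝒮 ≫ Spec.map (CommRingCat.ofHom (algebraMap A (𝒮 0))) := by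
      rw [hrr']
    rw [← Category.assoc, ← Category.assoc _ r', ι_comp_eq 𝒮 ι hι r m hU, ι_comp_eq 𝒮 ι hι r' m hU',
      Category.assoc, Category.assoc, Proj.awayι_toSpecZero_assoc, ← Spec.map_comp,
      ← CommRingCat.ofHom_comp, chartHom_eq, chartHom_eq] at h1
    simp only [ChowLib.toSpecOf, Category.assoc] at h1 ⊢
    simp only [g, CommRingCat.ofHom_comp, Spec.map_comp] at h1 ⊢
    exact h1
  refine away_hom_ext 𝒮 ι hι hsym m _ _ hconst (fun x hx => ?_)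
  · let F : M → Away 𝒮 (ι m) := fun y => frac 𝒮 (hι m) (hι y)
    change chartFun 𝒮 ι r m hU (F x) = chartFun 𝒮 ι r' m hU' (F x)
    have hx' : x ∈ Submodule.span A G := hG ▸ Submodule.mem_top
    clear hx
    induction hx' using Submodule.span_induction with
    | zero =>
      have e : F 0 = 0 := HomogeneousLocalization.val_injective _ (by simp [F, Away.val_mk, Localization.mk_zero])
      rw [e, map_zero, map_zero]
    | add y z _ _ ihy ihz =>
      have e : F (y + z) = F y + F z := HomogeneousLocalization.val_injective _ (by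
        simp [F, Away.val_mk, Localization.add_mk_self])
      rw [e, map_add, map_add, ihy, ihz]
    | smul a y _ ihy =>
      have ha : algebraMap A S a ∈ 𝒮 (0 • 1) := by
        rw [zero_smul]; exact SetLike.algebraMap_mem_graded 𝒮 a
      have e : F (a • y) = Away.mk 𝒮 (hι m) 0 (algebraMap A S a) ha * F y :=
        HomogeneousLocalization.val_injective _ (by
          simp [F, Away.val_mk, Localization.mk_mul, Algebra.smul_def])
      rw [e, map_mul, map_mul, hconst a ha, ihy]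
    | mem x hxG => ?_
    change (r ⁻¹ᵁ D m).topIso.inv (r.appLE (D m) U hU (Proj.awayToSection 𝒮 (ι m) (frac 𝒮 (hι m) (hι x)))) =
      (r ⁻¹ᵁ D m).topIso.inv (r'.appLE (D m) U hU' (Proj.awayToSection 𝒮 (ι m) (frac 𝒮 (hι m) (hι x))))
    congr 1
    let c : Γ(Proj 𝒮, D m) := Proj.awayToSection 𝒮 (ι m) (frac 𝒮 (hι m) (hι x))
    have hc : c • res O1 (le_top : D m ≤ ⊤) (glob m) = res O1 (le_top : D m ≤ ⊤) (glob x) :=
      frac_smul_globalOf 𝒮 (hι m) (hι x)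
    have key : ∀ (q : X ⟶ Proj 𝒮) (h : U ≤ q ⁻¹ᵁ D m),
        q.appLE (D m) U h c • res (KFlatLib.pb q O1) (le_top : U ≤ q ⁻¹ᵁ ⊤) (KFlatLib.puSec q (glob m)) =
          res (KFlatLib.pb q O1) (le_top : U ≤ q ⁻¹ᵁ ⊤) (KFlatLib.puSec q (glob x)) := by
      intro q h
      have h1 := congrArg (fun t => res (KFlatLib.pb q O1) h (KFlatLib.puSec q t)) hc
      simp only [puSec_smul, puSec_res, res_smul, res_res] at h1
      exact h1
    have k1 := congrArg (τ.hom.app U) (key r hU)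
    rw [Scheme.Modules.Hom.app_smul] at k1
    have hn : ∀ y ∈ G, τ.hom.app U (res (KFlatLib.pb r O1) (le_top : U ≤ r ⁻¹ᵁ ⊤) (KFlatLib.puSec r (glob y))) =
        res (KFlatLib.pb r' O1) (le_top : U ≤ r' ⁻¹ᵁ ⊤) (KFlatLib.puSec r' (glob y)) := fun y hy =>
      (NatTrans.naturality_apply τ.hom.mapPresheaf (homOfLE (le_top : U ≤ ⊤)).op _).trans
        (congrArg (res (KFlatLib.pb r' O1) (le_top : U ≤ ⊤)) (hτ y hy))
    rw [hn m hm, hn x hxG, ← key r' hU'] at k1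
    have hgen : GenOn (KFlatLib.pb r' O1) (res (KFlatLib.pb r' O1) (le_top : U ≤ r' ⁻¹ᵁ ⊤)
        (KFlatLib.puSec r' (glob m))) :=
      genOn_of_genAt fun z hz => (genAt_res _ _ hz).mpr
        ((genAt_pull_iff 𝒮 ι hι hsym r' m z).mpr (hU' hz))
    refine (hgen U le_rfl).1 ?_
    simp only [res_refl]
    exact k1

end SymUP

end TwistLib

end
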