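import Groth.Agent.TwistLib.PullGen

/-!
# Morphisms out of a module with local generators
-/

set_option autoImplicit false
universe u

open CategoryTheory CategoryTheory.Limits AlgebraicGeometry TopologicalSpace Opposite
open AmpleLib

noncomputable section

namespace TwistLib

variable {X : Scheme.{u}} {M N : X.Modules} {ι : Type*} (D : ι → X.Opens)
  (e : ∀ a, Γ(M, D a)) (f : ∀ a, Γ(N, D a))

/-- `s` is the image of `t` -/
def IsImg {W : X.Opens} (t : Γ(M, W)) (s : Γ(N, W)) : Prop :=
  ∀ (a : ι) (V : X.Opens) (hW : V ≤ W) (hD : V ≤ D a) (c : Γ(X, V)),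
    c • res M hD (e a) = res M hW t → c • res N hD (f a) = res N hW s

theorem exists_hom_of_gens (hcov : ∀ x : X, ∃ a, x ∈ D a) (he : ∀ a, GenOn M (e a))
    (hf : ∀ (a b : ι) (V : X.Opens) (ha : V ≤ D a) (hb : V ≤ D b) (c : Γ(X, V)),
      c • res M ha (e a) = res M hb (e b) → c • res N ha (f a) = res N hb (f b)) :
    ∃ β : M ⟶ N, ∀ a, β.app (D a) (e a) = f a := by
  classical
  have main : ∀ (W : X.Opens) (t : Γ(M, W)), ∃! s : Γ(N, W), IsImg D e f t s := by
    intro W t
    have hc : ∀ a, ∃ c : Γ(X, W ⊓ D a), c • res M (inf_le_right : W ⊓ D a ≤ D a) (e a) =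
        res M (inf_le_left : W ⊓ D a ≤ W) t := fun a => (he a (W ⊓ D a) inf_le_right).2 _
    choose c hc using hc
    have hco : W ≤ ⨆ a, W ⊓ D a := fun x hx => by
      obtain ⟨a, ha⟩ := hcov x
      exact Opens.mem_iSup.mpr ⟨a, hx, ha⟩
    have loc : ∀ (a : ι) (V : X.Opens) (hW : V ≤ W) (hD : V ≤ D a) (d : Γ(X, V)),
        d • res M hD (e a) = res M hW t →
          d = X.presheaf.map (homOfLE (le_inf hW hD)).op (c a) := by
      intro a V hW hD d h
      refine (he a V hD).1 ?_
      have h2 := congrArg (res M (le_inf hW hD)) (hc a)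
      rw [res_smul, res_res, res_res] at h2
      exact h.trans h2.symm
    obtain ⟨s, hs, hu⟩ := TopCat.Sheaf.existsUnique_gluing' (F := ⟨N.presheaf, N.isSheaf⟩)
      (fun a => W ⊓ D a) W (fun a => homOfLE inf_le_left) hco
      (fun a => c a • res N (inf_le_right : W ⊓ D a ≤ D a) (f a)) (by
        intro a b
        let V := (W ⊓ D a) ⊓ (W ⊓ D b)
        have hVa : V ≤ W ⊓ D a := inf_le_left
        have hVb : V ≤ W ⊓ D b := inf_le_right
        obtain ⟨d, hd⟩ := (he a V (hVa.trans inf_le_right)).2 (res M (hVb.trans inf_le_right) (e b))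
        have h2 := congrArg (res M hVb) (hc b)
        rw [res_smul, res_res, res_res] at h2
        dsimp only at hd
        rw [← hd, smul_smul] at h2
        have h3 := loc a V (hVa.trans inf_le_left) (hVa.trans inf_le_right) _ h2
        change res N hVa (c a • _) = res N hVb (c b • _)
        rw [res_smul, res_smul, res_res, res_res,
          ← hf a b V (hVa.trans inf_le_right) (hVb.trans inf_le_right) d hd, smul_smul]
        exact congrArg (· • _) h3.symm)
    refine ⟨s, fun a V hW hD d hd => ?_, fun s' hs' => hu s' fun a => ?_⟩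
    · have h1 := congrArg (res N (le_inf hW hD)) (show res N _ s = _ from hs a)
      rw [res_res, res_smul, res_res] at h1
      rw [loc a V hW hD d hd]
      exact h1.symm
    · exact (hs' a (W ⊓ D a) inf_le_left inf_le_right (c a) (hc a)).symm
  choose β hβ hβu using main
  have hlin : ∀ (W : X.Opens) (r : Γ(X, W)) (t : Γ(M, W)), β W (r • t) = r • β W t := by
    intro W r t
    refine (hβu W _ _ fun a V hW hD d hd => ?_).symm
    rw [res_smul] at hd ⊢
    obtain ⟨d', hd'⟩ := (he a V hD).2 (res M hW t)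
    dsimp only at hd'
    rw [← hd', smul_smul] at hd
    rw [(he a V hD).1 hd, mul_smul, hβ W t a V hW hD d' hd']
  have hadd : ∀ (W : X.Opens) (t t' : Γ(M, W)), β W (t + t') = β W t + β W t' := by
    intro W t t'
    refine (hβu W _ _ fun a V hW hD d hd => ?_).symm
    obtain ⟨d₁, h₁⟩ := (he a V hD).2 (res M hW t)
    obtain ⟨d₂, h₂⟩ := (he a V hD).2 (res M hW t')
    dsimp only at h₁ h₂
    simp only [res, map_add] at hd ⊢
    change _ = res M hW t + res M hW t' at hd
    rw [← h₁, ← h₂, ← add_smul] at hd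
    change _ = res N hW (β W t) + res N hW (β W t')
    rw [(he a V hD).1 hd, add_smul, ← hβ W t a V hW hD d₁ h₁, ← hβ W t' a V hW hD d₂ h₂]
  have hnat : ∀ {W W' : X.Opens} (h : W' ≤ W) (t : Γ(M, W)), β W' (res M h t) = res N h (β W t) := by
    intro W W' h t
    refine (hβu W' _ _ fun a V hW hD d hd => ?_).symm
    rw [res_res] at hd ⊢
    exact hβ W t a V (hW.trans h) hD d hd
  refine ⟨⟨PresheafOfModules.homMk (M₁ := M.val) (M₂ := N.val)
    { app := fun W => AddCommGrpCat.ofHom
        (AddMonoidHom.mk' (fun t : Γ(M, W.unop) => β W.unop t) (hadd W.unop))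
      naturality := fun W W' i => by
        ext t
        exact hnat i.unop.le t }
    (fun W r t => hlin W.unop r t)⟩, fun a => ?_⟩
  refine (hβu (D a) (e a) (f a) fun b V hW hD d hd => ?_).symm
  exact hf b a V hD hW d hd

end TwistLib

end
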