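import Groth.Agent.AmpleLib.Gen
import Groth.Agent.KFlatLib.PullTensor

/-!
# Generators: sheaf properties, pullback, gluing of morphisms
-/

set_option autoImplicit false
universe u

open CategoryTheory CategoryTheory.Limits AlgebraicGeometry TopologicalSpace Opposite
open scoped TensorProduct
open AmpleLib

noncomputable section

namespace TwistLib

variable {X Y : Scheme.{u}}

lemma mod_ext (M : X.Modules) {W : X.Opens} {s t : Γ(M, W)}
    (h : ∀ (x : X) (hx : x ∈ W), M.presheaf.germ W x hx s = M.presheaf.germ W x hx t) : s = t :=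
  TopCat.Presheaf.section_ext ⟨M.presheaf, M.isSheaf⟩ W s t h

/-- generating at every point is generating on the open -/
theorem genOn_of_genAt {M : X.Modules} {W : X.Opens} {σ : Γ(M, W)}
    (h : ∀ (x : X) (hx : x ∈ W), GenAt M σ hx) : GenOn M σ := by
  have hinj : ∀ (V : X.Opens) (hV : V ≤ W),
      Function.Injective (fun r : Γ(X, V) => r • res M hV σ) := by
    intro V hV r r' e
    refine TopCat.Presheaf.section_ext X.sheaf V r r' fun x hx => (h x (hV hx)).1 ?_
    have e' := congrArg (M.presheaf.germ V x hx) e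
    simp only [germ_smul, germ_res] at e'
    exact e'
  intro V hV
  refine ⟨hinj V hV, fun t => ?_⟩
  have hloc : ∀ x : V, ∃ (V' : X.Opens) (_ : x.1 ∈ V') (hle : V' ≤ V) (r : Γ(X, V')),
      r • res M (hle.trans hV) σ = res M hle t := by
    intro x
    obtain ⟨c, hc⟩ := (h x.1 (hV x.2)).2 (M.presheaf.germ V x.1 x.2 t)
    obtain ⟨U, hU, r, rfl⟩ := X.presheaf.exists_germ_eq (x := x.1) c
    dsimp only at hc
    let T := U ⊓ V
    have hxT : x.1 ∈ T := ⟨hU, x.2⟩
    let r' : Γ(X, T) := X.presheaf.map (homOfLE (inf_le_left : T ≤ U)).op r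
    have e1 : M.presheaf.germ T x.1 hxT (r' • res M ((inf_le_right : T ≤ V).trans hV) σ) =
        M.presheaf.germ T x.1 hxT (res M (inf_le_right : T ≤ V) t) := by
      rw [germ_smul, germ_res, germ_res, TopCat.Presheaf.germ_res_apply, hc]
    obtain ⟨V', hxV', i₁, i₂, e2⟩ := TopCat.Presheaf.germ_eq _ _ hxT hxT _ _ e1
    have e : i₂ = i₁ := Subsingleton.elim _ _
    subst e
    have hi : i₂ = homOfLE i₂.le := rfl
    rw [hi] at e2
    change res M i₂.le _ = res M i₂.le _ at e2
    rw [res_smul, res_res, res_res] at e2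
    exact ⟨V', hxV', i₂.le.trans inf_le_right, _, e2⟩
  choose V' hxV' hle r hr using hloc
  have hcov : V ≤ iSup V' := fun x hx => Opens.mem_iSup.mpr ⟨⟨x, hx⟩, hxV' _⟩
  obtain ⟨g, hg, -⟩ := X.sheaf.existsUnique_gluing' V' V (fun x => homOfLE (hle x)) hcov r (by
    intro a b
    refine hinj _ (inf_le_left.trans ((hle a).trans hV)) ?_
    change X.presheaf.map (homOfLE (inf_le_left : V' a ⊓ V' b ≤ V' a)).op (r a) • _ =
      X.presheaf.map (homOfLE (inf_le_right : V' a ⊓ V' b ≤ V' b)).op (r b) • _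
    have ea := congrArg (res M (inf_le_left : V' a ⊓ V' b ≤ V' a)) (hr a)
    have eb := congrArg (res M (inf_le_right : V' a ⊓ V' b ≤ V' b)) (hr b)
    rw [res_smul, res_res, res_res] at ea eb
    exact ea.trans eb.symm)
  refine ⟨g, mod_ext M fun x hx => ?_⟩
  have e := congrArg (M.presheaf.germ (V' ⟨x, hx⟩) x (hxV' _)) (hr ⟨x, hx⟩)
  have hg' : r ⟨x, hx⟩ = X.presheaf.map (homOfLE (hle ⟨x, hx⟩)).op g := (hg ⟨x, hx⟩).symm
  rw [hg', germ_smul, TopCat.Presheaf.germ_res_apply, germ_res, germ_res] at e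
  rw [germ_smul, germ_res]
  exact e

lemma bijective_smul_one_tmul {A B : Type u} [CommRing A] [CommRing B] [Algebra A B] {N : Type u}
    [AddCommGroup N] [Module A N] (g : N) (h : Function.Bijective fun c : A => c • g) :
    Function.Bijective fun c : B => c • ((1 : B) ⊗ₜ[A] g) := by
  let e : A ≃ₗ[A] N := LinearEquiv.ofBijective (LinearMap.toSpanSingleton A N g) h
  have hE : (fun c : B => c • ((1 : B) ⊗ₜ[A] g)) =
      fun c => TensorProduct.congr (LinearEquiv.refl A B) e ((TensorProduct.rid A B).symm c) :=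
    funext fun c => by
      simp [e, TensorProduct.smul_tmul', TensorProduct.rid_symm_apply]
  rw [hE]
  exact (TensorProduct.congr (LinearEquiv.refl A B) e).bijective.comp
    (TensorProduct.rid A B).symm.bijective

/-- the inverse image of a generator is a generator -/
theorem GenAt.puSec (f : X ⟶ Y) {M : Y.Modules} {U : Y.Opens} {m : Γ(M, U)} {x : X}
    {hx : f x ∈ U} (h : GenAt M m hx) :
    GenAt (KFlatLib.pb f M) (W := f ⁻¹ᵁ U) (KFlatLib.puSec f m) (show x ∈ f ⁻¹ᵁ U from hx) := by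
  let alg := (f.stalkMap x).hom.toAlgebra
  have h1 := @bijective_smul_one_tmul (Y.presheaf.stalk (f x)) (X.presheaf.stalk x) _ _ alg
    ((DerSch.stalkFunctor Y (f x)).obj M) _ _ (M.presheaf.germ U (f x) hx m) h
  let ψ := ((KFlatLib.stalkPullIso f x).inv.app M).hom
  have hψ : Function.Bijective ψ :=
    ConcreteCategory.bijective_of_isIso ((KFlatLib.stalkPullIso f x).inv.app M)
  have key : ∀ c : X.presheaf.stalk x, ψ (c • ((1 : X.presheaf.stalk x) ⊗ₜ[Y.presheaf.stalk (f x)]
      (M.presheaf.germ U (f x) hx m : (DerSch.stalkFunctor Y (f x)).obj M))) =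
        c • (KFlatLib.pb f M).presheaf.germ (f ⁻¹ᵁ U) x hx (KFlatLib.puSec f m) := fun c =>
    (ψ.map_smul c _).trans (congrArg (c • ·) (KFlatLib.stalkPullInv_germ f M x hx m))
  exact Eq.mp (congrArg Function.Bijective (funext key)) (hψ.comp h1)

/-- an invertible module has generators near every point -/
theorem exists_genOn {M : X.Modules} (hM : PicF.IsInvertible M) (x : X) :
    ∃ (U : X.Opens) (e : Γ(M, U)), x ∈ U ∧ GenOn M e := by
  obtain ⟨U, hxU, ⟨i⟩⟩ := hM x
  let U' := U.ι ''ᵁ (⊤ : U.toScheme.Opens)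
  let e : Γ(M, U') := i.inv.app ⊤ (1 : Γ(U.toScheme, ⊤))
  refine ⟨U', e, ⟨⟨x, hxU⟩, trivial, rfl⟩, fun V hV => ?_⟩
  have hVU : V ≤ U := hV.trans (by simp only [U', Scheme.Opens.ι_image_top, le_refl])
  obtain ⟨W, rfl⟩ : ∃ W : U.toScheme.Opens, U.ι ''ᵁ W = V := ⟨U.ι ⁻¹ᵁ V, by
    rw [Scheme.Hom.image_preimage_eq_opensRange_inf, Scheme.Opens.opensRange_ι]
    exact inf_eq_right.mpr hVU⟩
  have key : ∀ r : Γ(U.toScheme, W),
      i.inv.app W r = (show Γ(X, U.ι ''ᵁ W) from (U.ι.appIso W).inv r) • res M hV e := by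
    intro r
    have h1 : (r : Γ(Coh.structureModule U.toScheme, W)) =
        r • ((Coh.structureModule U.toScheme).presheaf.map (homOfLE (le_top : W ≤ ⊤)).op
          (1 : Γ(U.toScheme, ⊤))) := by
      refine Eq.trans ?_ (congrArg (r • ·) (map_one (U.toScheme.presheaf.map (homOfLE (le_top : W ≤ ⊤)).op).hom).symm)
      exact (mul_one r).symm
    refine ((congrArg (i.inv.app W) h1).trans (Scheme.Modules.Hom.app_smul i.inv r _)).trans ?_
    refine congrArg (fun t : Γ(M, U.ι ''ᵁ W) => (show Γ(X, U.ι ''ᵁ W) from (U.ι.appIso W).inv r) • t) ?_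
    exact NatTrans.naturality_apply i.inv.mapPresheaf (homOfLE (le_top : W ≤ ⊤)).op (1 : Γ(U.toScheme, ⊤))
  have hb := (ConcreteCategory.bijective_of_isIso (i.inv.app W)).comp
    (ConcreteCategory.bijective_of_isIso (U.ι.appIso W).hom)
  have e' : (⇑(i.inv.app W) ∘ ⇑(U.ι.appIso W).hom) = fun r : Γ(X, U.ι ''ᵁ W) => r • res M hV e :=
    funext fun r => by
      refine (key _).trans ?_
      rw [← CommRingCat.comp_apply, Iso.hom_inv_id]
      rfl
  exact e' ▸ hb

/-- the locus where a section generates is open -/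
theorem isOpen_genAt {M : X.Modules} (hM : PicF.IsInvertible M) (σ : Γ(M, ⊤)) :
    IsOpen {x : X | GenAt M σ (show x ∈ (⊤ : X.Opens) from trivial)} := by
  rw [isOpen_iff_forall_mem_open]
  intro x hx
  obtain ⟨U, e, hxU, he⟩ := exists_genOn hM x
  obtain ⟨r, hr⟩ := (he U le_rfl).2 (res M le_top σ)
  dsimp only at hr
  rw [res_refl] at hr
  have key : ∀ (y : X) (hy : y ∈ U), GenAt M σ (show y ∈ (⊤ : X.Opens) from trivial) ↔ y ∈ X.basicOpen r := by
    intro y hy
    rw [← genAt_res (le_top : U ≤ ⊤) σ hy, ← hr]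
    exact genAt_smul_iff r e hy (he.genAt hy)
  exact ⟨X.basicOpen r, fun y hy => (key y (Scheme.basicOpen_le _ r hy)).mpr hy, (X.basicOpen r).2,
    (key x hxU).mp hx⟩

/-- the open where a section generates -/
def genSet {M : X.Modules} (hM : PicF.IsInvertible M) (σ : Γ(M, ⊤)) : X.Opens :=
  ⟨_, isOpen_genAt hM σ⟩

lemma genSet_genOn {M : X.Modules} (hM : PicF.IsInvertible M) (σ : Γ(M, ⊤)) :
    GenOn M (res M (le_top : genSet hM σ ≤ ⊤) σ) :=
  genOn_of_genAt fun _ hx => (genAt_res _ σ hx).mpr hx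

/-- generating global sections: one of them generates at each point -/
theorem exists_genAt_of_generatedBy {M : X.Modules} (hM : PicF.IsInvertible M) {ι : Type*}
    (s : ι → Γ(M, ⊤)) (x : X)
    (h : Submodule.span (X.presheaf.stalk x)
      (Set.range fun i => (M.presheaf.germ ⊤ x trivial).hom (s i)) = ⊤) :
    ∃ i, GenAt M (s i) (show x ∈ (⊤ : X.Opens) from trivial) := by
  obtain ⟨U, e, hxU, he⟩ := exists_genOn hM x
  by_contra hne
  push Not at hne
  have hb := he.genAt hxU
  let g : M.presheaf.stalk x := M.presheaf.germ U x hxU e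
  let I := IsLocalRing.maximalIdeal (X.presheaf.stalk x)
  have hmem : Submodule.span (X.presheaf.stalk x)
      (Set.range fun i => (M.presheaf.germ ⊤ x trivial).hom (s i)) ≤
      Submodule.map (LinearMap.toSpanSingleton (X.presheaf.stalk x) _ g) I := by
    rw [Submodule.span_le]
    rintro _ ⟨i, rfl⟩
    obtain ⟨c, hc⟩ := hb.2 (M.presheaf.germ ⊤ x trivial (s i))
    refine ⟨c, ?_, hc⟩
    rw [SetLike.mem_coe, IsLocalRing.mem_maximalIdeal, mem_nonunits_iff]
    intro hu
    apply hne i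
    dsimp only [GenAt]
    simp only at hc
    simp only [← hc, smul_smul]
    exact hb.comp hu.unit.mulRight.bijective
  rw [h] at hmem
  obtain ⟨c, hc, e1⟩ := hmem (Submodule.mem_top (x := g))
  have : c = 1 := hb.1 (by
    refine Eq.trans ?_ (one_smul (X.presheaf.stalk x) g).symm
    exact e1)
  subst this
  exact (IsLocalRing.maximalIdeal.isMaximal (X.presheaf.stalk x)).ne_top ((Ideal.eq_top_iff_one _).mpr hc)

/-- a morphism sending generators to generators is an isomorphism -/
theorem isIso_of_gen {M N : X.Modules} (φ : M ⟶ N) (h : ∀ x : X, ∃ (U : X.Opens) (hx : x ∈ U) (e : Γ(M, U)),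
      GenAt M e hx ∧ GenAt N (φ.app U e) hx) : IsIso φ := by
  refine KFlatLib.isIso_of_stalks φ fun x => ?_
  obtain ⟨U, hx, e, h1, h2⟩ := h x
  refine (ConcreteCategory.isIso_iff_bijective _).mpr ?_
  let f := ((DerSch.stalkFunctor X x).map φ).hom
  refine (Function.Bijective.of_comp_iff f h1).mp ?_
  have e' : (⇑f ∘ fun c : X.presheaf.stalk x => c • M.presheaf.germ U x hx e) =
      fun c => c • N.presheaf.germ U x hx (φ.app U e) :=
    funext fun c => (f.map_smul c _).trans
      (congrArg (c • ·) (DerSch.stalkFunctor_map_germ x φ U hx e))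
  exact e'.symm ▸ h2

end TwistLib

end
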