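import Groth.Agent.TwistLib.HomGlue
import Groth.Agent.TwistLib.PtApp
import Groth.Agent.TwistLib.SymPow
import Groth.Prelude.Def_ProjUP

/-!
# The universal property of `Proj` of a symmetric algebra: existence
-/

set_option autoImplicit false
universe u

open CategoryTheory CategoryTheory.Limits AlgebraicGeometry TopologicalSpace Opposite
open HomogeneousLocalization RelProjLib AmpleLib

noncomputable section

namespace TwistLib.SymUP

variable {A : Type u} [CommRing A] {S : Type u} [CommRing S] [Algebra A S] (𝒮 : ℕ → Submodule A S)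
  [GradedAlgebra 𝒮] {M : Type u} [AddCommGroup M] [Module A M] (ι : M →ₗ[A] S) (hι : ∀ m : M, ι m ∈ 𝒮 1)
  (hsym : IsSymmetricAlgebra ι)
  {X : Scheme.{u}} (q : X ⟶ Spec (CommRingCat.of A)) (L : X.Modules) (hL : PicF.IsInvertible L)
  (v : M →+ Γ(L, ⊤)) (hv : ∀ (a : A) (m : M), v (a • m) = ProjUP.toGlobal q a • v m)

/-- where `v m` generates -/
abbrev U (m : M) : X.Opens := genSet hL (v m)

/-- the generator on `U m` -/
abbrev g (m : M) : Γ(L, U L hL v m) := res L le_top (v m)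

/-- constants on `U m` -/
def ρ (m : M) : A →+* Γ(X, U L hL v m) :=
  (X.presheaf.map (homOfLE (le_top : U L hL v m ≤ ⊤)).op).hom.comp (ProjUP.toGlobal q)

/-- the coefficient of `v x` -/
def θ (m x : M) : Γ(X, U L hL v m) :=
  (Equiv.ofBijective _ (genSet_genOn hL (v m) _ le_rfl)).symm (res L le_top (v x))

lemma θ_spec (m x : M) : θ L hL v m x • g L hL v m = res L le_top (v x) := by
  have := (Equiv.ofBijective _ (genSet_genOn hL (v m) _ le_rfl)).apply_symm_apply (res L le_top (v x))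
  change θ L hL v m x • res L (le_refl _) (g L hL v m) = _ at this
  rw [res_refl] at this
  exact this

lemma coeff_unique (m : M) {V : X.Opens} (h : V ≤ U L hL v m) {a b : Γ(X, V)}
    (e : a • res L (h.trans le_top) (v m) = b • res L (h.trans le_top) (v m)) : a = b := by
  refine (genSet_genOn hL (v m) V h).1 ?_
  simp only [res_res]
  exact e

include hv in
lemma θ_linear (m : M) : ∀ (a : A) (x : M), θ L hL v m (a • x) = ρ q L hL v m a * θ L hL v m x := by
  intro a x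
  refine coeff_unique L hL v m le_rfl ?_
  rw [mul_smul, θ_spec, θ_spec, hv, res_smul]
  rfl

lemma θ_add (m x y : M) : θ L hL v m (x + y) = θ L hL v m x + θ L hL v m y := by
  refine coeff_unique L hL v m le_rfl ?_
  rw [add_smul, θ_spec, θ_spec, θ_spec, map_add]
  exact map_add (L.presheaf.map _).hom _ _

/-- the coefficients as a linear map and its extension to `S` -/
def Φ (m : M) : S →+* Γ(X, U L hL v m) :=
  letI : Algebra A Γ(X, U L hL v m) := (ρ q L hL v m).toAlgebra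
  (hsym.lift ({ toFun := θ L hL v m
                map_add' := θ_add L hL v m
                map_smul' := fun a x => (θ_linear q L hL v hv m a x).trans (Algebra.smul_def a _).symm } :
      M →ₗ[A] Γ(X, U L hL v m))).toRingHom

lemma Φ_ι (m x : M) : Φ ι hsym q L hL v hv m (ι x) = θ L hL v m x :=
  letI : Algebra A Γ(X, U L hL v m) := (ρ q L hL v m).toAlgebra
  hsym.lift_eq _ x

lemma Φ_algebraMap (m : M) (a : A) : Φ ι hsym q L hL v hv m (algebraMap A S a) = ρ q L hL v m a :=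
  letI : Algebra A Γ(X, U L hL v m) := (ρ q L hL v m).toAlgebra
  AlgHom.commutes _ a

lemma Φ_self (m : M) : Φ ι hsym q L hL v hv m (ι m) = 1 := by
  rw [Φ_ι]
  refine coeff_unique L hL v m le_rfl ?_
  rw [θ_spec, one_smul]

/-- on `U m` the map into `Proj` -/
def pt (m : M) : (U L hL v m).toScheme ⟶ Proj 𝒮 :=
  ptG 𝒮 ((U L hL v m).topIso.inv.hom.comp (Φ ι hsym q L hL v hv m)) (hι m) one_pos
    (by rw [RingHom.comp_apply, Φ_self, map_one]; exact isUnit_one)

lemma res_Φ_change (a b : M) {V : X.Opens} (ha : V ≤ U L hL v a) (hb : V ≤ U L hL v b) (x : M) :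
    X.presheaf.map (homOfLE hb).op (Φ ι hsym q L hL v hv b (ι x)) =
      X.presheaf.map (homOfLE hb).op (Φ ι hsym q L hL v hv b (ι a)) *
        X.presheaf.map (homOfLE ha).op (Φ ι hsym q L hL v hv a (ι x)) := by
  simp only [Φ_ι]
  have key : ∀ (c y : M) (hc : V ≤ U L hL v c),
      X.presheaf.map (homOfLE hc).op (θ L hL v c y) • res L (hc.trans le_top) (v c) =
        res L (hc.trans le_top) (v y) := by
    intro c y hc
    have := congrArg (res L hc) (θ_spec L hL v c y)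
    rw [res_smul, res_res, res_res] at this
    exact this
  refine coeff_unique L hL v b hb ?_
  rw [key, mul_comm, mul_smul, key, key]

lemma homOfLE_pt (m : M) {V : X.Opens} (h : V ≤ U L hL v m) {t : S} (ht : t ∈ 𝒮 1)
    (hu : IsUnit (X.presheaf.map (homOfLE h).op (Φ ι hsym q L hL v hv m t))) :
    X.homOfLE h ≫ pt 𝒮 ι hι hsym q L hL v hv m =
      ptG 𝒮 ((V.topIso.inv.hom.comp (X.presheaf.map (homOfLE h).op).hom).comp (Φ ι hsym q L hL v hv m))
        ht one_pos (hu.map V.topIso.inv.hom) := by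
  have e : ((X.homOfLE h).appTop.hom.comp (U L hL v m).topIso.inv.hom) =
      V.topIso.inv.hom.comp (X.presheaf.map (homOfLE h).op).hom := by
    rw [← CommRingCat.hom_comp, ← CommRingCat.hom_comp, Scheme.homOfLE_appTop]
    congr 1
    simp only [Scheme.Opens.topIso_inv]
    erw [← Functor.map_comp, ← Functor.map_comp]
    rfl
  rw [pt, comp_ptG]
  simp only [← RingHom.comp_assoc, e]
  exact ptG_change 𝒮 _ _ _ _ _ _ _

include hι in
lemma pt_overlap (a b : M) {V : X.Opens} (ha : V ≤ U L hL v a) (hb : V ≤ U L hL v b) :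
    X.homOfLE ha ≫ pt 𝒮 ι hι hsym q L hL v hv a = X.homOfLE hb ≫ pt 𝒮 ι hι hsym q L hL v hv b := by
  let c := X.presheaf.map (homOfLE hb).op (Φ ι hsym q L hL v hv b (ι a))
  have hc : IsUnit c := by
    refine IsUnit.of_mul_eq_one _ ((res_Φ_change ι hsym q L hL v hv a b ha hb b).symm.trans ?_)
    rw [Φ_self, map_one]
  have hau : IsUnit (X.presheaf.map (homOfLE ha).op (Φ ι hsym q L hL v hv a (ι a))) := by
    rw [Φ_self, map_one]; exact isUnit_one
  rw [homOfLE_pt 𝒮 ι hι hsym q L hL v hv a ha (hι a) hau,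
    homOfLE_pt 𝒮 ι hι hsym q L hL v hv b hb (hι a) hc]
  refine ptG_scale 𝒮 _ _ (V.topIso.inv c) (fun k s hs => ?_) _ _ _ _
  refine hom_scale 𝒮 ι hι hsym _ _ _ (fun r => ?_) (fun x => ?_) hs
  · simp only [RingHom.comp_apply, Φ_algebraMap]
    refine congrArg _ ?_
    simp only [ρ, RingHom.comp_apply]
    rw [← CommRingCat.comp_apply, ← CommRingCat.comp_apply, ← Functor.map_comp, ← Functor.map_comp]
    rfl
  · simp only [RingHom.comp_apply, res_Φ_change ι hsym q L hL v hv a b ha hb x, map_mul]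
    rfl

variable (hgen : ∀ x : X, ∃ m, x ∈ U L hL v m)

/-- the cover by the `U m` -/
def cover : X.OpenCover :=
  Scheme.Cover.mkOfCovers M (fun m => (U L hL v m).toScheme) (fun m => (U L hL v m).ι)
    (fun x => by
      obtain ⟨m, hm⟩ := hgen x
      exact ⟨m, ⟨x, hm⟩, rfl⟩)
    (fun m => by infer_instance)

/-- the morphism -/
def r : X ⟶ Proj 𝒮 :=
  (cover L hL v hgen).glueMorphisms (fun m => pt 𝒮 ι hι hsym q L hL v hv m) (fun a b => by
    let P := pullback ((cover L hL v hgen).f a) ((cover L hL v hgen).f b)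
    let u : P ⟶ (U L hL v a).toScheme := pullback.fst _ _
    let w : P ⟶ (U L hL v b).toScheme := pullback.snd _ _
    have h : u ≫ (U L hL v a).ι = w ≫ (U L hL v b).ι := pullback.condition
    let j : P ⟶ X := u ≫ (U L hL v a).ι
    have hr : Set.range j ⊆ Set.range (U L hL v a ⊓ U L hL v b).ι := by
      rintro _ ⟨z, rfl⟩
      rw [Scheme.Opens.range_ι]
      refine ⟨(u z).2, ?_⟩
      change j z ∈ U L hL v b
      rw [show j = w ≫ (U L hL v b).ι from h]
      exact (w z).2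
    let l := IsOpenImmersion.lift (U L hL v a ⊓ U L hL v b).ι j hr
    have hl : l ≫ (U L hL v a ⊓ U L hL v b).ι = j := IsOpenImmersion.lift_fac _ _ _
    have h1 : u = l ≫ X.homOfLE (inf_le_left : _ ≤ U L hL v a) := by
      rw [← cancel_mono (U L hL v a).ι, Category.assoc, Scheme.homOfLE_ι, hl]
    have h2 : w = l ≫ X.homOfLE (inf_le_right : _ ≤ U L hL v b) := by
      rw [← cancel_mono (U L hL v b).ι, Category.assoc, Scheme.homOfLE_ι, hl]
      exact h.symm
    change u ≫ _ = w ≫ _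
    rw [h1, h2, Category.assoc, Category.assoc,
      pt_overlap 𝒮 ι hι hsym q L hL v hv a b inf_le_left inf_le_right])

lemma ι_r (m : M) : (U L hL v m).ι ≫ r 𝒮 ι hι hsym q L hL v hv hgen = pt 𝒮 ι hι hsym q L hL v hv m :=
  (cover L hL v hgen).ι_glueMorphisms _ _ m

lemma r_preimage (m : M) :
    r 𝒮 ι hι hsym q L hL v hv hgen ⁻¹ᵁ Proj.basicOpen 𝒮 (ι m) = U L hL v m := by
  ext x
  obtain ⟨b, hb⟩ := hgen x
  have e : r 𝒮 ι hι hsym q L hL v hv hgen x = pt 𝒮 ι hι hsym q L hL v hv b ⟨x, hb⟩ := by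
    rw [← ι_r 𝒮 ι hι hsym q L hL v hv hgen b]; rfl
  change r 𝒮 ι hι hsym q L hL v hv hgen x ∈ Proj.basicOpen 𝒮 (ι m) ↔ _
  rw [e]
  change (⟨x, hb⟩ : (U L hL v b).toScheme) ∈
    pt 𝒮 ι hι hsym q L hL v hv b ⁻¹ᵁ Proj.basicOpen 𝒮 (ι m) ↔ _
  rw [pt, ptG_preimage 𝒮 _ _ _ _ (hι m) one_pos]
  have e2 : (⟨x, hb⟩ : (U L hL v b).toScheme) ∈ (U L hL v b).toScheme.basicOpen
      (((U L hL v b).topIso.inv.hom.comp (Φ ι hsym q L hL v hv b)) (ι m)) ↔
      x ∈ X.basicOpen (θ L hL v b m) := by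
    rw [RingHom.comp_apply, Φ_ι]
    conv_rhs => rw [← Scheme.Opens.ι_image_basicOpen_topIso_inv]
    constructor
    · exact fun h => ⟨_, h, rfl⟩
    · rintro ⟨z, hz, rfl⟩
      exact hz
  rw [e2]
  change x ∈ X.basicOpen (θ L hL v b m) ↔ GenAt L (v m) _
  rw [← genAt_res (le_top : U L hL v b ≤ ⊤) (v m) hb, ← θ_spec L hL v b m]
  exact (genAt_smul_iff _ _ hb ((genSet_genOn hL (v b)).genAt hb)).symm

lemma r_toBase :
    r 𝒮 ι hι hsym q L hL v hv hgen ≫ Proj.toSpecZero 𝒮 ≫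
      Spec.map (CommRingCat.ofHom (algebraMap A (𝒮 0))) = q := by
  refine (cover L hL v hgen).hom_ext _ _ fun m => ?_
  change (U L hL v m).ι ≫ _ = (U L hL v m).ι ≫ q
  rw [← Category.assoc, ι_r, pt, ← Category.assoc, ptG_toSpecZero]
  obtain ⟨ψ, hψ⟩ := ChowLib.toSpecOf_surjective ((U L hL v m).ι ≫ q)
  rw [← hψ, ChowLib.toSpecOf, ChowLib.toSpecOf, Category.assoc, ← Spec.map_comp, ← CommRingCat.ofHom_comp]
  congr 3
  have h2 := congrArg (fun f => (Scheme.ΓSpecIso (CommRingCat.of A)).inv ≫ f.appTop) hψ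
  simp [ChowLib.toSpecOf, Scheme.toSpecΓ_appTop] at h2
  refine RingHom.ext fun a => ?_
  have h3 := congrArg (fun f : CommRingCat.of A ⟶ _ => f a) h2
  simp at h3
  refine Eq.trans ?_ h3.symm
  change (U L hL v m).topIso.inv (Φ ι hsym q L hL v hv m (algebraMap A S a)) = _
  rw [Φ_algebraMap]
  simp [ρ, ProjUP.toGlobal, Scheme.Opens.topIso_inv]
  erw [← CommRingCat.comp_apply, ← CommRingCat.comp_apply, ← Functor.map_comp]
  rfl

lemma appLE_frac (m x : M) (h : U L hL v m ≤ r 𝒮 ι hι hsym q L hL v hv hgen ⁻¹ᵁ Proj.basicOpen 𝒮 (ι m)) :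
    (r 𝒮 ι hι hsym q L hL v hv hgen).appLE (Proj.basicOpen 𝒮 (ι m)) (U L hL v m) h
      (Proj.awayToSection 𝒮 (ι m) (frac 𝒮 (hι m) (hι x))) = θ L hL v m x := by
  have hu : IsUnit (Φ ι hsym q L hL v hv m (ι m)) := by rw [Φ_self]; exact isUnit_one
  rw [appLE_of_ι_comp 𝒮 _ (Φ ι hsym q L hL v hv m) (hι m) one_pos hu
    (ι_r 𝒮 ι hι hsym q L hL v hv hgen m) h]
  refine Eq.trans ?_ ((awayLift_frac 𝒮 (Φ ι hsym q L hL v hv m) (hι m) (hι x) hu).trans
    (Φ_ι ι hsym q L hL v hv m x))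
  rw [Φ_self, mul_one]

include hgen hsym hv in
theorem exists_r_τ :
    ∃ (r' : X ⟶ Proj 𝒮) (_ : r' ≫ Proj.toSpecZero 𝒮 ≫ Spec.map (CommRingCat.ofHom (algebraMap A (𝒮 0))) = q)
      (τ : (Scheme.Modules.pullback r').obj (Twist.twist 𝒮 ((1 : ℕ) : ℤ)) ≅ L),
      ∀ m : M, τ.hom.app ⊤ (KFlatLib.puSec r' (U := ⊤) (Twist.globalOf 𝒮 ⟨ι m, hι m⟩)) = v m := by
  let r' := r 𝒮 ι hι hsym q L hL v hv hgen
  let O1 := Twist.twist 𝒮 ((1 : ℕ) : ℤ)
  let D : M → (Proj 𝒮).Opens := fun m => Proj.basicOpen 𝒮 (ι m)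
  let glob : M → Γ(O1, ⊤) := fun m => Twist.globalOf 𝒮 ⟨ι m, hι m⟩
  let e : ∀ m, Γ(O1, D m) := fun m => res O1 le_top (glob m)
  let N := (Scheme.Modules.pushforward r').obj L
  let f : ∀ m, Γ(N, D m) := fun m => res L (le_top : r' ⁻¹ᵁ D m ≤ ⊤) (v m)
  have he : ∀ m, GenOn O1 (e m) := fun m => globalOf_genOn 𝒮 (hι m)
  have hfrac : ∀ m x, (show Γ(Proj 𝒮, D m) from Proj.awayToSection 𝒮 (ι m) (frac 𝒮 (hι m) (hι x))) • e m =
      res O1 (le_top : D m ≤ ⊤) (glob x) := fun m x => frac_smul_globalOf 𝒮 (hι m) (hι x)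
  -- `r^*(x/m) v m = v x`
  have hU : ∀ m x, (show Γ(X, r' ⁻¹ᵁ D m) from r'.app (D m) (Proj.awayToSection 𝒮 (ι m) (frac 𝒮 (hι m) (hι x)))) •
      res L (le_top : r' ⁻¹ᵁ D m ≤ ⊤) (v m) = res L (le_top : r' ⁻¹ᵁ D m ≤ ⊤) (v x) := by
    intro m x
    have hp : r' ⁻¹ᵁ D m ≤ U L hL v m := (r_preimage 𝒮 ι hι hsym q L hL v hv hgen m).le
    have hp' : U L hL v m ≤ r' ⁻¹ᵁ D m := (r_preimage 𝒮 ι hι hsym q L hL v hv hgen m).ge
    have h1 := congrArg (res L hp) (θ_spec L hL v m x)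
    rw [res_smul, res_res, res_res, ← appLE_frac 𝒮 ι hι hsym q L hL v hv hgen m x hp',
      ← CommRingCat.comp_apply, Scheme.Hom.appLE_map] at h1
    rw [Scheme.Hom.app_eq_appLE]
    exact h1
  obtain ⟨β, hβ⟩ := exists_hom_of_gens (M := O1) (N := N) D e f
    (fun y => by
      have hle : (HomogeneousIdeal.irrelevant 𝒮).toIdeal ≤ Ideal.span (Set.range fun m => ι m) :=
        irrelevant_le 𝒮 ι hι hsym
      exact Opens.mem_iSup.mp (show y ∈ ⨆ m, D m by
        rw [show ⨆ m, D m = ⊤ from Proj.iSup_basicOpen_eq_top 𝒮 _ hle]; trivial))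
    he (fun a b V ha hb c hc => by
      have h1 := congrArg (res O1 ha) (hfrac a b)
      rw [res_smul, res_res] at h1
      have h2 : res O1 ha (res O1 (le_top : D a ≤ ⊤) (glob b)) = res O1 hb (e b) := by
        rw [res_res, res_res]
      rw [h2, ← hc] at h1
      have h3 := (he a V ha).1 h1
      have h4 := congrArg (res L (r'.preimage_mono ha)) (hU a b)
      rw [res_smul, res_res, res_res] at h4
      change (show Γ(X, r' ⁻¹ᵁ V) from r'.app V c) • res L (r'.preimage_mono ha) (f a) =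
        res L (r'.preimage_mono hb) (f b)
      rw [res_res, res_res, ← h3]
      refine Eq.trans ?_ h4
      refine congrArg (· • _) ?_
      exact congrArg (fun φ => φ (Proj.awayToSection 𝒮 (ι a) (frac 𝒮 (hι a) (hι b))))
        (congrArg ConcreteCategory.hom (r'.naturality (homOfLE ha).op)))
  let τ₀ : (Scheme.Modules.pullback r').obj O1 ⟶ L :=
    ((Scheme.Modules.pullbackPushforwardAdjunction r').homEquiv O1 L).symm β
  have hτ : ∀ (W : (Proj 𝒮).Opens) (t : Γ(O1, W)),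
      τ₀.app (r' ⁻¹ᵁ W) (KFlatLib.puSec r' t) = β.app W t := by
    intro W t
    have e := ((Scheme.Modules.pullbackPushforwardAdjunction r').homEquiv_unit _ _ τ₀).symm.trans
      (Equiv.apply_symm_apply _ β)
    exact congr($(e).app W t)
  have hiso : IsIso τ₀ := by
    refine isIso_of_gen τ₀ fun x => ?_
    obtain ⟨m, hm⟩ := hgen x
    have hx : r' x ∈ D m := (r_preimage 𝒮 ι hι hsym q L hL v hv hgen m).ge hm
    refine ⟨r' ⁻¹ᵁ D m, hx, KFlatLib.puSec r' (e m), GenAt.puSec r' ((he m).genAt hx), ?_⟩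
    rw [hτ, hβ]
    exact (genAt_res _ (v m) hx).mpr hm
  refine ⟨r', r_toBase 𝒮 ι hι hsym q L hL v hv hgen, @asIso _ _ _ _ τ₀ hiso, fun x => ?_⟩
  change τ₀.app ⊤ (KFlatLib.puSec r' (U := ⊤) (glob x)) = v x
  refine (hτ ⊤ (glob x)).trans (mod_ext L fun y _ => ?_)
  obtain ⟨m, hm⟩ := hgen y
  have hy : y ∈ r' ⁻¹ᵁ D m := (r_preimage 𝒮 ι hι hsym q L hL v hv hgen m).ge hm
  refine ((germ_res L (le_top : r' ⁻¹ᵁ D m ≤ ⊤) _ hy).symm.trans ?_).trans (germ_res L le_top _ hy)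
  refine congrArg (L.presheaf.germ _ y hy) ?_
  have hn : β.app (D m) (res O1 (le_top : D m ≤ ⊤) (glob x)) =
      res L (le_top : r' ⁻¹ᵁ D m ≤ ⊤) (β.app ⊤ (glob x)) :=
    NatTrans.naturality_apply β.mapPresheaf (homOfLE (le_top : D m ≤ ⊤)).op (glob x)
  rw [← hn, ← hfrac m x, Scheme.Modules.Hom.app_smul, hβ]
  exact hU m x

end TwistLib.SymUP

end
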