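import Groth.Agent.TwistLib.SpecInv
import Mathlib.RingTheory.LocalProperties.FinitePresentation
import Mathlib.RingTheory.LocalProperties.Projective

/-!
# Generated invertible modules on an affine scheme as quotients of free modules
-/

set_option autoImplicit false
universe u

open CategoryTheory CategoryTheory.Limits AlgebraicGeometry TopologicalSpace Opposite
open AmpleLib

noncomputable section

namespace TwistLib

theorem isQCoh_of_isInvertible {X : Scheme.{u}} {L : X.Modules} (hL : PicF.IsInvertible L) :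
    Coh.IsQCoh L := by
  choose U hU e using hL
  refine QCohLib.isQCoh_of_cover L U (eq_top_iff.mpr fun x _ => Opens.mem_iSup.mpr ⟨x, hU x⟩) fun x => ?_
  have := QCohLib.isQCoh_unit (X := (U x).toScheme)
  exact QCohLib.isQCoh_of_iso (e x).some.symm

theorem isInvertible_congr {X : Scheme.{u}} {L L' : X.Modules} (e : L ≅ L') (hL : PicF.IsInvertible L) :
    PicF.IsInvertible L' := fun x => by
  obtain ⟨U, hU, ⟨a⟩⟩ := hL x
  exact ⟨U, hU, ⟨((Scheme.Modules.restrictFunctor U.ι).mapIso e).symm ≪≫ a⟩⟩

theorem span_of_genAt {X : Scheme.{u}} (L : X.Modules) {ι : Type*} (t : ι → Γ(L, ⊤)) (x : X) {k : ι}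
    (h : GenAt L (t k) (show x ∈ (⊤ : X.Opens) from trivial)) :
    Submodule.span (X.presheaf.stalk x) (Set.range fun i => (L.presheaf.germ ⊤ x trivial).hom (t i)) = ⊤ := by
  refine eq_top_iff.mpr fun z _ => ?_
  obtain ⟨c, hc⟩ := h.2 z
  rw [← hc]
  exact Submodule.smul_mem _ c (Submodule.subset_span ⟨k, rfl⟩)

variable {R : CommRingCat.{u}}

lemma tildeMap_σT {P Q : ModuleCat.{u} R} (f : P ⟶ Q) (m : P) :
    (tilde.map f).app ⊤ (σT P m) = σT Q (f.hom m) :=
  congrArg (fun φ => φ m) (tilde.toOpen_map_app f (⊤ : (Spec R).Opens))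

/-- `R^ι → Γ(L)` -/
def secSum {ι : Type} [Fintype ι] {L : (Spec R).Modules} (t : ι → Γ(L, ⊤)) (c : ι → R) : Γ(L, ⊤) :=
  ∑ i, (Scheme.ΓSpecIso R).inv (c i) • t i

lemma σT_app_sum {ι : Type} [Fintype ι] {L : (Spec R).Modules} {P : ModuleCat.{u} R} (e : tilde P ⟶ L)
    (p : ι → P) (c : ι → R) :
    e.app ⊤ (σT P (∑ i, c i • p i)) = secSum (fun i => e.app ⊤ (σT P (p i))) c := by
  refine (congrArg (e.app ⊤) (map_sum (AddMonoidHom.mk' (σT P) (σT_add P)) _ _)).trans ?_
  refine (map_sum (e.app ⊤).hom _ _).trans (Finset.sum_congr rfl fun i _ => ?_)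
  change e.app ⊤ (σT P (c i • p i)) = _
  rw [σT_smul, Scheme.Modules.Hom.app_smul]

/-- a locally generating family spans -/
theorem span_eq_top_of_locBij {P : ModuleCat.{u} R} {ι : Type*} (p : ι → P)
    (h : ∀ x : Spec R, ∃ (k : ι) (g : R), x ∈ PrimeSpectrum.basicOpen g ∧
      LocBij (Submonoid.powers g) (LinearMap.toSpanSingleton R P (p k))) :
    Submodule.span R (Set.range p) = ⊤ := by
  refine eq_top_iff.mpr fun m _ => ?_
  let I : Ideal R := (Submodule.span R (Set.range p)).comap (LinearMap.toSpanSingleton R P m)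
  have hI : I = ⊤ := by
    by_contra hne
    obtain ⟨J, hJ, hle⟩ := Ideal.exists_le_maximal I hne
    obtain ⟨k, g, hg, -, hs⟩ := h ⟨J, hJ.isPrime⟩
    obtain ⟨s, ⟨j, rfl⟩, r, hr⟩ := hs m
    have hmem : g ^ j ∈ I := by
      change (g ^ j) • m ∈ Submodule.span R (Set.range p)
      rw [← hr]
      exact Submodule.smul_mem _ r (Submodule.subset_span ⟨k, rfl⟩)
    exact hg (hJ.isPrime.mem_of_pow_mem j (hle hmem))
  have h1 := (Ideal.eq_top_iff_one I).mp hI
  have h2 : (1 : R) • m ∈ Submodule.span R (Set.range p) := h1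
  rwa [one_smul] at h2

/-- a generated invertible module is the sheaf of the quotient by the relations -/
theorem exists_quot_iso {ι : Type} [Fintype ι] [DecidableEq ι] {L : (Spec R).Modules}
    (hL : PicF.IsInvertible L) (t : ι → Γ(L, ⊤))
    (hgen : ∀ x : Spec R, ∃ k, GenAt L (t k) (show x ∈ (⊤ : (Spec R).Opens) from trivial)) :
    ∃ (F : Submodule R (ι → R)) (e : tilde (ModuleCat.of R ((ι → R) ⧸ F)) ≅ L),
      (∀ c, c ∈ F ↔ secSum t c = 0) ∧
      (∀ i, e.hom.app ⊤ (σT _ (F.mkQ (Pi.single i 1))) = t i) ∧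
      ∀ x : Spec R, ∃ (k : ι) (g : R), x ∈ PrimeSpectrum.basicOpen g ∧
        LocBij (Submonoid.powers g) (LinearMap.toSpanSingleton R _ (F.mkQ (Pi.single k (1 : R)))) := by
  have := isQCoh_of_isInvertible hL
  let P : ModuleCat.{u} R := moduleSpecΓFunctor.obj L
  let e₀ : tilde P ≅ L := @asIso _ _ _ _ L.fromTildeΓ (Scheme.Modules.isIso_fromTildeΓ_of_isQuasicoherent L)
  choose p hp using fun i => ((ConcreteCategory.bijective_of_isIso (e₀.hom.app ⊤)).comp (σT_bijective P)).2 (t i)
  let π : (ι → R) →ₗ[R] P := Fintype.linearCombination R p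
  have hπ : ∀ i, π (Pi.single i 1) = p i := fun i => by
    simp [π, Fintype.linearCombination_apply_single]
  have hlb : ∀ x : Spec R, ∃ (k : ι) (g : R), x ∈ PrimeSpectrum.basicOpen g ∧
      LocBij (Submonoid.powers g) (LinearMap.toSpanSingleton R P (p k)) := fun x => by
    obtain ⟨k, hk⟩ := hgen x
    have hk' : GenAt (tilde P) (σT P (p k)) (show x ∈ (⊤ : (Spec R).Opens) from trivial) := by
      refine (genAt_app_iso e₀ _ _).mp ?_
      rw [show e₀.hom.app ⊤ (σT P (p k)) = t k from hp k]
      exact hk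
    obtain ⟨g, hg, hb⟩ := exists_locBij_of_genAt P (isInvertible_congr e₀.symm hL) (p k) hk'
    exact ⟨k, g, hg, hb⟩
  have hsurj : Function.Surjective π := by
    rw [← LinearMap.range_eq_top, Fintype.range_linearCombination]
    exact span_eq_top_of_locBij p hlb
  let q : ((ι → R) ⧸ LinearMap.ker π) ≃ₗ[R] P := π.quotKerEquivOfSurjective hsurj
  let e : tilde (ModuleCat.of R ((ι → R) ⧸ LinearMap.ker π)) ≅ L :=
    (tilde.functor R).mapIso q.toModuleIso ≪≫ e₀
  have hq : ∀ c, q ((LinearMap.ker π).mkQ c) = π c := fun c => rfl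
  refine ⟨LinearMap.ker π, e, fun c => ?_, fun i => ?_, fun x => ?_⟩
  · have h1 : e₀.hom.app ⊤ (σT P (π c)) = secSum t c := by
      rw [show π c = ∑ i, c i • p i from Fintype.linearCombination_apply R p c, σT_app_sum]
      exact congrArg (secSum · c) (funext hp)
    rw [LinearMap.mem_ker, ← h1]
    constructor
    · intro h
      rw [h, σT_zero, map_zero]
    · intro h
      refine ((ConcreteCategory.bijective_of_isIso (e₀.hom.app ⊤)).comp (σT_bijective P)).1 ?_
      simp only [Function.comp_apply, h, σT_zero, map_zero]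
  · refine (congrArg (e₀.hom.app ⊤) (tildeMap_σT q.toModuleIso.hom _)).trans ?_
    refine Eq.trans (congrArg (fun m => e₀.hom.app ⊤ (σT P m)) ?_) (hp i)
    exact (hq _).trans (hπ i)
  · obtain ⟨k, g, hg, hb⟩ := hlb x
    refine ⟨k, g, hg, fun r hr => hb.1 r ?_, fun n => ?_⟩
    · have := congrArg q hr
      simp only [LinearMap.toSpanSingleton_apply, map_smul, map_zero, hq, hπ] at this
      exact this
    · obtain ⟨s, hs, r, hr⟩ := hb.2 (q n)
      refine ⟨s, hs, r, q.injective ?_⟩
      simp only [LinearMap.toSpanSingleton_apply, map_smul, hq, hπ]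
      exact hr

/-- bijective after localising: the image of the element is a basis -/
theorem toSpan_bijective_of_locBij (S : Submonoid R) {P : Type u} [AddCommGroup P] [Module R P] (m : P)
    (h : LocBij S (LinearMap.toSpanSingleton R P m)) :
    Function.Bijective (LinearMap.toSpanSingleton (Localization S) (LocalizedModule S P)
      (LocalizedModule.mkLinearMap S P m)) := by
  have h1 := (locBij_iff _ S (Algebra.linearMap R (Localization S)) (LocalizedModule.mkLinearMap S P)).mpr h
  have e : IsLocalizedModule.map S (Algebra.linearMap R (Localization S)) (LocalizedModule.mkLinearMap S P)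
      (LinearMap.toSpanSingleton R P m) =
      (LinearMap.toSpanSingleton (Localization S) _ (LocalizedModule.mkLinearMap S P m)).restrictScalars R := by
    refine IsLocalizedModule.linearMap_ext S (Algebra.linearMap R (Localization S))
      (LocalizedModule.mkLinearMap S P) ?_
    rw [IsLocalizedModule.map_comp]
    refine LinearMap.ext_ring ?_
    simp
  rw [e] at h1
  exact h1

/-- invertible modules from locally generating families -/
theorem projective_finrank_of_locBij {P : Type u} [AddCommGroup P] [Module R P] [Module.Finite R P]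
    {ι : Type*} (p : ι → P)
    (h : ∀ x : Spec R, ∃ (k : ι) (g : R), x ∈ PrimeSpectrum.basicOpen g ∧
      LocBij (Submonoid.powers g) (LinearMap.toSpanSingleton R P (p k))) :
    Module.Projective R P ∧ ∀ x : PrimeSpectrum R,
      Module.finrank (Localization.AtPrime x.asIdeal) (LocalizedModule x.asIdeal.primeCompl P) = 1 := by
  choose k g hg hb using h
  have hp : ∀ x : PrimeSpectrum R, Function.Bijective (LinearMap.toSpanSingleton
      (Localization.AtPrime x.asIdeal) (LocalizedModule x.asIdeal.primeCompl P)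
        (LocalizedModule.mkLinearMap x.asIdeal.primeCompl P (p (k x)))) := fun x =>
    toSpan_bijective_of_locBij _ _ ((hb x).mono _ (by
      rintro _ ⟨j, rfl⟩
      exact ⟨g x ^ j, fun hm => hg x (x.isPrime.mem_of_pow_mem j hm), dvd_rfl⟩))
  have hfp : Module.FinitePresentation R P := by
    refine Module.FinitePresentation.of_localizationSpan (Set.range g) ?_ fun ⟨_, x, rfl⟩ => ?_
    · by_contra hne
      obtain ⟨J, hJ, hle⟩ := Ideal.exists_le_maximal _ hne
      exact hg ⟨J, hJ.isPrime⟩ (hle (Ideal.subset_span ⟨_, rfl⟩))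
    · exact Module.FinitePresentation.of_equiv (LinearEquiv.ofBijective _ (toSpan_bijective_of_locBij _ _ (hb x)))
  refine ⟨Module.projective_of_localization_maximal fun J hJ => ?_, fun x => ?_⟩
  · exact Module.Projective.of_equiv (LinearEquiv.ofBijective _ (hp ⟨J, hJ.isPrime⟩))
  · rw [← (LinearEquiv.ofBijective _ (hp x)).finrank_eq, Module.finrank_self]

end TwistLib

end
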