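import Groth.Agent.TwistLib.Basic
import Groth.Agent.AmpleLib.Powers

/-!
# `O(1)` is ample when the irrelevant ideal is generated by finitely many elements of degree one
-/

set_option autoImplicit false
universe u

open CategoryTheory CategoryTheory.Limits AlgebraicGeometry TopologicalSpace Opposite

noncomputable section

namespace TwistLib

variable {R A : Type u} [CommRing R] [CommRing A] [Algebra R A] (𝒜 : ℕ → Submodule R A) [GradedAlgebra 𝒜]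

lemma compactSpace_of_finset (s : Finset A) (hs1 : ∀ f ∈ s, f ∈ 𝒜 1)
    (h : ⨆ f : (s : Set A), Proj.basicOpen 𝒜 (f : A) = ⊤) : CompactSpace (Proj 𝒜) := by
  refine ⟨?_⟩
  rw [← TopologicalSpace.Opens.coe_top (α := Proj 𝒜), ← h, TopologicalSpace.Opens.coe_iSup]
  exact isCompact_iUnion fun f => (Proj.isAffineOpen_basicOpen 𝒜 f.1 (hs1 f.1 f.2) one_pos).isCompact

theorem twist_one_isAmple (s : Finset A) (hs1 : ∀ f ∈ s, f ∈ 𝒜 1)
    (hs : (HomogeneousIdeal.irrelevant 𝒜).toIdeal ≤ Ideal.span (s : Set A)) :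
    CohB1.IsAmple (Twist.twist 𝒜 1) := by
  have hcov : ⨆ f : (s : Set A), Proj.basicOpen 𝒜 (f : A) = ⊤ :=
    iSup_basicOpen_eq_top_of_span 𝒜 (fun f : (s : Set A) => (f : A)) (by rwa [Subtype.range_coe])
  have hcov' : ⨆ f : 𝒜 1, Proj.basicOpen 𝒜 (f : A) = ⊤ :=
    top_le_iff.mp (hcov ▸ iSup_le fun f => le_iSup_of_le (⟨f.1, hs1 f.1 f.2⟩ : 𝒜 1) le_rfl)
  refine ⟨twist_isInvertible 𝒜 hcov' 1, compactSpace_of_finset 𝒜 s hs1 hcov, fun x => ?_⟩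
  obtain ⟨f, hf⟩ := Opens.mem_iSup.mp (show x ∈ ⨆ f : (s : Set A), Proj.basicOpen 𝒜 (f : A) from hcov ▸ trivial)
  let L := Twist.twist 𝒜 1
  let σ : Γ(CohB1.tensorPow L (0 + 1), ⊤) :=
    AmpleLib.shT (M := CohB1.tensorPow L 0) (N := L) (1 : Γ(Proj 𝒜, ⊤)) (Twist.globalOf 𝒜 ⟨f.1, hs1 f.1 f.2⟩)
  have hgen : CohB1.genLocus _ (QCohLib.unitHom (CohB1.tensorPow L (0 + 1)) σ) = Proj.basicOpen 𝒜 (f : A) := by
    refine AmpleLib.genLocus_eq σ _ fun y => ?_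
    obtain ⟨g, hg⟩ := Opens.mem_iSup.mp (show y ∈ ⨆ f : 𝒜 1, Proj.basicOpen 𝒜 (f : A) from hcov' ▸ trivial)
    let u : Unit' 𝒜 1 (Proj.basicOpen 𝒜 (g : A)) :=
      ⟨1, 0, g.1, 1, g.2, SetLike.GradedOne.one_mem, by simp, fun z => z.2,
        fun z h => z.1.isPrime.ne_top ((Ideal.eq_top_iff_one _).mpr h)⟩
    have h1 : AmpleLib.GenAt (CohB1.tensorPow L 0) (W := Proj.basicOpen 𝒜 (g : A))
        (1 : Γ(Proj 𝒜, Proj.basicOpen 𝒜 (g : A))) hg := (AmpleLib.one_genOn _).genAt hg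
    have h2 : AmpleLib.GenAt L u.sec hg := u.genOn.genAt hg
    obtain ⟨r, hr⟩ := (u.genOn _ le_rfl).2
      (AmpleLib.res L (le_top : Proj.basicOpen 𝒜 (g : A) ≤ ⊤) (Twist.globalOf 𝒜 ⟨f.1, hs1 f.1 f.2⟩))
    dsimp only at hr
    rw [AmpleLib.res_refl] at hr
    have hσ : AmpleLib.res (CohB1.tensorMod (CohB1.tensorPow L 0) L)
        (le_top : Proj.basicOpen 𝒜 (g : A) ≤ ⊤) σ =
        r • AmpleLib.shT (M := CohB1.tensorPow L 0) (N := L) (1 : Γ(Proj 𝒜, Proj.basicOpen 𝒜 (g : A))) u.sec := by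
      rw [AmpleLib.shT_res]
      refine Eq.trans ?_ ((AmpleLib.shT_smul 1 r _ _).trans (by rw [one_mul]))
      rw [one_smul, hr]
      exact congrArg (AmpleLib.shT · _) (map_one ((Proj 𝒜).presheaf.map _).hom)
    rw [← AmpleLib.genAt_res (le_top : Proj.basicOpen 𝒜 (g : A) ≤ ⊤) σ hg]
    erw [hσ]
    refine (AmpleLib.genAt_smul_iff r _ hg (h1.tensor h2)).trans ?_
    rw [← AmpleLib.genAt_smul_iff r u.sec hg h2, hr, AmpleLib.genAt_res]
    exact genAt_globalOf (𝒜 := 𝒜) (i := 1) (a := ⟨f.1, hs1 f.1 f.2⟩) u hg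
  exact ⟨0, QCohLib.unitHom _ σ, by rw [hgen]; exact hf, by
    rw [hgen]; exact Proj.isAffineOpen_basicOpen 𝒜 f.1 (hs1 f.1 f.2) one_pos⟩

end TwistLib

end
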