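import Groth.Agent.TwistLib.ProjSymExt
import Groth.Agent.TwistLib.SpecSections
import Mathlib.LinearAlgebra.SymmetricAlgebra.Basis

/-!
# Coordinates generate the pullback of `O(1)`
-/

set_option autoImplicit false
universe u

open CategoryTheory CategoryTheory.Limits AlgebraicGeometry TopologicalSpace Opposite

noncomputable section

namespace TwistLib

variable (n : ℕ) (R : Type u) [CommRing R] {X : Scheme.{u}} (s : X ⟶ CohB1.ProjSpace n R)

theorem exists_genAt_coord (x : X) :
    ∃ k, AmpleLib.GenAt ((Scheme.Modules.pullback s).obj (Twist.twistProjSpace n R 1))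
      (ProjUP.pullSec s (Twist.twistProjSpace n R 1) (ProjUP.coord n R k))
      (show x ∈ (⊤ : X.Opens) from trivial) := by
  classical
  let b := Pi.basisFun R (Fin (n + 1))
  let ι : (Fin (n + 1) → R) →ₗ[R] MvPolynomial (Fin (n + 1)) R := Module.Basis.constr b R MvPolynomial.X
  have hι : ∀ m, ι m ∈ CohB1.polyGrading n R 1 := by
    intro m
    rw [Module.Basis.constr_apply_fintype]
    exact sum_mem fun i _ => Submodule.smul_mem _ _ (MvPolynomial.isHomogeneous_X R i)
  have hsym := SymmetricAlgebra.IsSymmetricAlgebra.mvPolynomial (Fin (n + 1)) b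
  obtain ⟨⟨m, k, rfl⟩, hm⟩ := Opens.mem_iSup.mp
    (show s x ∈ ⨆ m : Set.range b, Proj.basicOpen (CohB1.polyGrading n R) (ι m.1) by
      rw [SymUP.iSup_D_of_span (CohB1.polyGrading n R) ι hι hsym b.span_eq]; trivial)
  refine ⟨k, ?_⟩
  have h := (SymUP.genAt_pull_iff (CohB1.polyGrading n R) ι hι hsym s (b k) x).mpr hm
  have e : (⟨ι (b k), hι (b k)⟩ : CohB1.polyGrading n R 1) =
      ⟨MvPolynomial.X k, MvPolynomial.isHomogeneous_X R k⟩ := Subtype.ext (b.constr_basis R _ k)
  rw [e] at h
  exact h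

theorem coord_isInvertible : PicF.IsInvertible ((Scheme.Modules.pullback s).obj (Twist.twistProjSpace n R 1)) := by
  choose k hk using exists_genAt_coord n R s
  let U : Fin (n + 1) → X.Opens := fun i => s ⁻¹ᵁ Proj.basicOpen (CohB1.polyGrading n R) (MvPolynomial.X i)
  have hgen : ∀ (i : Fin (n + 1)) (x : X) (hx : x ∈ U i),
      AmpleLib.GenAt (KFlatLib.pb s (Twist.twist (CohB1.polyGrading n R) ((1 : ℕ) : ℤ)))
        (KFlatLib.puSec s (AmpleLib.res (Twist.twist (CohB1.polyGrading n R) ((1 : ℕ) : ℤ))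
          (le_top : Proj.basicOpen (CohB1.polyGrading n R) (MvPolynomial.X i) ≤ ⊤)
          (Twist.globalOf (CohB1.polyGrading n R) ⟨MvPolynomial.X i, MvPolynomial.isHomogeneous_X R i⟩)))
        hx := fun i x hx =>
    GenAt.puSec s ((globalOf_genOn (CohB1.polyGrading n R) (MvPolynomial.isHomogeneous_X R i)).genAt hx)
  refine isInvertible_of_genOn U (fun x => ?_) _ (fun i => genOn_of_genAt (hgen i))
  classical
  let b := Pi.basisFun R (Fin (n + 1))
  obtain ⟨i, hi⟩ := Opens.mem_iSup.mp (show s x ∈ ⨆ i, Proj.basicOpen (CohB1.polyGrading n R) (MvPolynomial.X i) by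
    let ι : (Fin (n + 1) → R) →ₗ[R] MvPolynomial (Fin (n + 1)) R := Module.Basis.constr b R MvPolynomial.X
    have hι : ∀ m, ι m ∈ CohB1.polyGrading n R 1 := by
      intro m
      rw [Module.Basis.constr_apply_fintype]
      exact sum_mem fun i _ => Submodule.smul_mem _ _ (MvPolynomial.isHomogeneous_X R i)
    have h := SymUP.iSup_D_of_span (CohB1.polyGrading n R) ι hι
      (SymmetricAlgebra.IsSymmetricAlgebra.mvPolynomial (Fin (n + 1)) b) b.span_eq
    refine (show (⊤ : (Proj (CohB1.polyGrading n R)).Opens) ≤ _ from ?_) (trivial : s x ∈ (⊤ : (Proj (CohB1.polyGrading n R)).Opens))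
    refine h.ge.trans (iSup_le fun m => ?_)
    obtain ⟨_, i, rfl⟩ := m
    refine le_iSup_of_le i (le_of_eq (congrArg _ ?_))
    exact b.constr_basis R _ i)
  exact ⟨i, hi⟩

lemma toGlobal_id (A : CommRingCat.{u}) (a : A) :
    ProjUP.toGlobal (A := A) (𝟙 (Spec A)) a = (Scheme.ΓSpecIso A).inv a := rfl

end TwistLib

end
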