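import Groth.Agent.TwistLib.HomGlue
import Groth.Agent.TwistLib.ProjSymExt
import Groth.Agent.QCohLib.Affine
import Mathlib.AlgebraicGeometry.Modules.Tilde
import Mathlib.RingTheory.Localization.Free
import Mathlib.RingTheory.LocalRing.Module

/-!
# Invertible modules on an affine scheme
-/

set_option autoImplicit false
universe u

open CategoryTheory CategoryTheory.Limits AlgebraicGeometry TopologicalSpace Opposite
open AmpleLib

noncomputable section

namespace TwistLib

/-- `f` is bijective after localising at `S` -/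
def LocBij {R : Type u} [CommRing R] (S : Submonoid R) {M N : Type u} [AddCommGroup M] [Module R M]
    [AddCommGroup N] [Module R N] (f : M →ₗ[R] N) : Prop :=
  (∀ m, f m = 0 → ∃ s ∈ S, s • m = 0) ∧ ∀ n, ∃ s ∈ S, ∃ m, f m = s • n

section

variable {R : Type u} [CommRing R] {M N : Type u} [AddCommGroup M] [Module R M] [AddCommGroup N]
  [Module R N] (f : M →ₗ[R] N)

lemma LocBij.mono {S T : Submonoid R} (h : LocBij S f) (hST : ∀ s ∈ S, ∃ t ∈ T, s ∣ t) : LocBij T f := by
  refine ⟨fun m hm => ?_, fun n => ?_⟩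
  · obtain ⟨s, hs, e⟩ := h.1 m hm
    obtain ⟨t, ht, a, rfl⟩ := hST s hs
    exact ⟨_, ht, by rw [mul_comm, mul_smul, e, smul_zero]⟩
  · obtain ⟨s, hs, m, e⟩ := h.2 n
    obtain ⟨t, ht, a, rfl⟩ := hST s hs
    exact ⟨_, ht, a • m, by rw [map_smul, e, smul_smul, mul_comm]⟩

theorem locBij_iff (S : Submonoid R) {M' N' : Type*} [AddCommGroup M'] [Module R M']
    [AddCommGroup N'] [Module R N'] (a : M →ₗ[R] M') (b : N →ₗ[R] N') [IsLocalizedModule S a]
    [IsLocalizedModule S b] :
    Function.Bijective (IsLocalizedModule.map S a b f) ↔ LocBij S f := by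
  constructor
  · intro h
    refine ⟨fun m hm => ?_, fun n => ?_⟩
    · have e : IsLocalizedModule.map S a b f (a m) = IsLocalizedModule.map S a b f (a 0) := by
        rw [IsLocalizedModule.map_apply, hm, map_zero, map_zero, map_zero]
      obtain ⟨s, hs⟩ := IsLocalizedModule.exists_of_eq (S := S) (h.1 e)
      exact ⟨s, s.2, by rw [smul_zero] at hs; exact hs⟩
    · obtain ⟨y, hy⟩ := h.2 (b n)
      obtain ⟨⟨m, s⟩, hs⟩ := IsLocalizedModule.surj S a y
      have e : b (f m) = b ((s : R) • n) := by
        rw [← IsLocalizedModule.map_apply S a b f, ← hs, Submonoid.smul_def, map_smul, hy, map_smul]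
      obtain ⟨t, ht⟩ := IsLocalizedModule.exists_of_eq (S := S) e
      refine ⟨t * s, mul_mem t.2 s.2, (t : R) • m, ?_⟩
      rw [map_smul, mul_smul]
      exact ht
  · intro h
    refine ⟨(injective_iff_map_eq_zero _).mpr fun y hy => ?_, fun y => ?_⟩
    · obtain ⟨⟨m, s⟩, hs⟩ := IsLocalizedModule.surj S a y
      have e : b (f m) = b 0 := by
        rw [← IsLocalizedModule.map_apply S a b f, ← hs, Submonoid.smul_def, map_smul, hy, smul_zero,
          map_zero]
      obtain ⟨t, ht⟩ := IsLocalizedModule.exists_of_eq (S := S) e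
      rw [smul_zero, Submonoid.smul_def, ← map_smul] at ht
      obtain ⟨w, hw, e'⟩ := h.1 _ ht
      have hu : IsUnit (algebraMap R (Module.End R M') (w * (t : R) * (s : R))) :=
        IsLocalizedModule.map_units a ⟨_, mul_mem (mul_mem hw t.2) s.2⟩
      refine ((Module.End.isUnit_iff _).mp hu).1 ?_
      simp only [Module.algebraMap_end_apply, smul_zero]
      simp only [Submonoid.smul_def] at hs
      rw [mul_smul, hs, ← map_smul, mul_smul, e', map_zero]
    · obtain ⟨⟨n, s⟩, hs⟩ := IsLocalizedModule.surj S b y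
      obtain ⟨t, ht, m, e⟩ := h.2 n
      obtain ⟨z, hz⟩ := ((Module.End.isUnit_iff _).mp
        (IsLocalizedModule.map_units a ⟨t * (s : R), mul_mem ht s.2⟩)).2 (a m)
      simp only [Module.algebraMap_end_apply] at hz
      refine ⟨z, ((Module.End.isUnit_iff _).mp
        (IsLocalizedModule.map_units b ⟨t * (s : R), mul_mem ht s.2⟩)).1 ?_⟩
      simp only [Module.algebraMap_end_apply]
      simp only [Submonoid.smul_def] at hs
      rw [← map_smul, hz, IsLocalizedModule.map_apply, e, mul_smul, hs, map_smul]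

end

variable {R : CommRingCat.{u}}

/-- the global section of `P~` given by `m ∈ P` -/
def σT (P : ModuleCat.{u} R) (m : P) : Γ(tilde P, ⊤) :=
  (tilde.toOpen P ⊤).hom m

lemma σT_bijective (P : ModuleCat.{u} R) : Function.Bijective (σT P) :=
  ConcreteCategory.bijective_of_isIso (tilde.toOpen P ⊤)

lemma σT_add (P : ModuleCat.{u} R) (m m' : P) : σT P (m + m') = σT P m + σT P m' :=
  map_add (tilde.toOpen P ⊤).hom m m'

lemma σT_zero (P : ModuleCat.{u} R) : σT P 0 = 0 := map_zero (tilde.toOpen P ⊤).hom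

lemma σT_smul (P : ModuleCat.{u} R) (r : R) (m : P) :
    σT P (r • m) = (Scheme.ΓSpecIso R).inv r • σT P m := by
  refine ((tilde.toOpen P ⊤).hom.map_smul r m).trans ?_
  refine (Scheme.Modules.smul_Spec_def (M := tilde P) (U := ⊤) r (σT P m)).trans ?_
  refine congrArg (fun c : Γ(Spec R, ⊤) => c • σT P m) ?_
  exact congrArg (fun φ => φ ((Scheme.ΓSpecIso R).inv r))
    (congrArg ConcreteCategory.hom ((Spec R).presheaf.map_id (op ⊤)))

/-- `r ↦ r • m` as a map of sheaves -/
def mulHom (P : ModuleCat.{u} R) (m : P) : tilde (ModuleCat.of R R) ⟶ tilde P :=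
  tilde.map (ModuleCat.ofHom (LinearMap.toSpanSingleton R P m))

lemma mulHom_app (P : ModuleCat.{u} R) (m : P) (V : (Spec R).Opens) (r : Γ(Spec R, V)) :
    (mulHom P m).app V r = r • res (tilde P) (le_top : V ≤ ⊤) (σT P m) := by
  have h1 : (mulHom P m).app ⊤ (1 : Γ(Spec R, ⊤)) = σT P m := by
    have h := congrArg (fun φ => φ (1 : R))
      (tilde.toOpen_map_app (ModuleCat.ofHom (LinearMap.toSpanSingleton R P m)) (⊤ : (Spec R).Opens))
    simp only [ModuleCat.comp_apply] at h
    change _ = (tilde.toOpen P ⊤).hom m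
    refine Eq.trans (congrArg ((mulHom P m).app ⊤) ?_)
      (h.trans (congrArg (tilde.toOpen P ⊤).hom (LinearMap.toSpanSingleton_apply_one R P m)))
    refine Subtype.ext (funext fun y => ?_)
    exact (Localization.mk_one (M := R) (S := y.1.asIdeal.primeCompl)).symm
  have hr : (r : Γ(tilde (ModuleCat.of R R), V)) =
      r • res (tilde (ModuleCat.of R R)) (le_top : V ≤ ⊤) (1 : Γ(Spec R, ⊤)) := by
    refine Eq.trans ?_ (congrArg (r • ·) (map_one ((Spec R).presheaf.map (homOfLE (le_top : V ≤ ⊤)).op).hom).symm)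
    exact (mul_one r).symm
  refine ((congrArg ((mulHom P m).app V) hr).trans (Scheme.Modules.Hom.app_smul (mulHom P m) r _)).trans ?_
  refine congrArg (r • ·) ?_
  exact (NatTrans.naturality_apply (mulHom P m).mapPresheaf (homOfLE (le_top : V ≤ ⊤)).op _).trans
    (congrArg (res (tilde P) (le_top : V ≤ ⊤)) h1)

/-- generating on a basic open -/
theorem bijective_basicOpen_iff (P : ModuleCat.{u} R) (m : P) (g : R) :
    Function.Bijective (fun r : Γ(Spec R, PrimeSpectrum.basicOpen g) =>
      r • res (tilde P) (le_top : (PrimeSpectrum.basicOpen g : (Spec R).Opens) ≤ ⊤) (σT P m)) ↔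
      LocBij (Submonoid.powers g) (LinearMap.toSpanSingleton R P m) := by
  let a := (tilde.toOpen (ModuleCat.of R R) (PrimeSpectrum.basicOpen g)).hom
  let b := (tilde.toOpen P (PrimeSpectrum.basicOpen g)).hom
  haveI : IsLocalizedModule (Submonoid.powers g) a :=
    (fun P' : ModuleCat.{u} R => (inferInstance : IsLocalizedModule.Away g
      (tilde.toOpen P' (PrimeSpectrum.basicOpen g)).hom)) (ModuleCat.of R R)
  haveI : IsLocalizedModule (Submonoid.powers g) b :=
    inferInstanceAs (IsLocalizedModule.Away g (tilde.toOpen P (PrimeSpectrum.basicOpen g)).hom)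
  have e : IsLocalizedModule.map (Submonoid.powers g) a b (LinearMap.toSpanSingleton R P m) =
      ((modulesSpecToSheaf.map (mulHom P m)).hom.app (op (PrimeSpectrum.basicOpen g))).hom := by
    refine IsLocalizedModule.linearMap_ext (Submonoid.powers g) a b ?_
    rw [IsLocalizedModule.map_comp]
    exact (congrArg ModuleCat.Hom.hom
      (tilde.toOpen_map_app (ModuleCat.ofHom (LinearMap.toSpanSingleton R P m)) _)).symm
  rw [← locBij_iff (LinearMap.toSpanSingleton R P m) (Submonoid.powers g) a b, e]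
  have e2 : (fun r : Γ(Spec R, PrimeSpectrum.basicOpen g) =>
      r • res (tilde P) (le_top : (PrimeSpectrum.basicOpen g : (Spec R).Opens) ≤ ⊤) (σT P m)) =
      ⇑((modulesSpecToSheaf.map (mulHom P m)).hom.app (op (PrimeSpectrum.basicOpen g))).hom :=
    funext fun r => (mulHom_app P m _ r).symm
  rw [e2]
  rfl

/-- generating on the basic opens near a point suffices -/
theorem genAt_of_basicOpen {M : (Spec R).Modules} {g : R}
    (σ : Γ(M, PrimeSpectrum.basicOpen g))
    (h : ∀ k : R, ∀ hk : (PrimeSpectrum.basicOpen k : (Spec R).Opens) ≤ PrimeSpectrum.basicOpen g,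
      Function.Bijective (fun r : Γ(Spec R, PrimeSpectrum.basicOpen k) => r • res M hk σ))
    {x : Spec R} (hx : x ∈ PrimeSpectrum.basicOpen g) : GenAt M σ hx := by
  have hnb : ∀ U : (Spec R).Opens, x ∈ U → ∃ k : R, x ∈ PrimeSpectrum.basicOpen k ∧
      (PrimeSpectrum.basicOpen k : (Spec R).Opens) ≤ U ⊓ PrimeSpectrum.basicOpen g := fun U hU => by
    have hmem : x ∈ U ⊓ PrimeSpectrum.basicOpen g := ⟨hU, hx⟩
    obtain ⟨_, ⟨k, rfl⟩, hxk, hk⟩ :=
      (Opens.isBasis_iff_nbhd.mp PrimeSpectrum.isBasis_basic_opens) hmem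
    exact ⟨k, hxk, hk⟩
  constructor
  · intro c c' e
    obtain ⟨U, hU, r, rfl⟩ := (Spec R).presheaf.exists_germ_eq (x := x) c
    obtain ⟨U', hU', r', rfl⟩ := (Spec R).presheaf.exists_germ_eq (x := x) c'
    obtain ⟨k, hxk, hk⟩ := hnb (U ⊓ U') ⟨hU, hU'⟩
    have hUk : (PrimeSpectrum.basicOpen k : (Spec R).Opens) ≤ U := hk.trans (inf_le_left.trans inf_le_left)
    have hU'k : (PrimeSpectrum.basicOpen k : (Spec R).Opens) ≤ U' := hk.trans (inf_le_left.trans inf_le_right)
    have hgk : (PrimeSpectrum.basicOpen k : (Spec R).Opens) ≤ PrimeSpectrum.basicOpen g := hk.trans inf_le_right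
    dsimp only at e
    rw [← TopCat.Presheaf.germ_res_apply (Spec R).presheaf (homOfLE hUk) x hxk r,
      ← TopCat.Presheaf.germ_res_apply (Spec R).presheaf (homOfLE hU'k) x hxk r',
      ← germ_res M hgk σ hxk, ← germ_smul, ← germ_smul] at e
    obtain ⟨T, hxT, i₁, i₂, hT⟩ := TopCat.Presheaf.germ_eq _ _ hxk hxk _ _ e
    obtain ⟨k', hxk', hk'⟩ := hnb T hxT
    have hkk : (PrimeSpectrum.basicOpen k' : (Spec R).Opens) ≤ PrimeSpectrum.basicOpen k :=
      (hk'.trans inf_le_left).trans i₁.le
    have e1 : i₁ = homOfLE i₁.le := rfl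
    have e2 : i₂ = homOfLE i₁.le := Subsingleton.elim _ _
    rw [e1, e2] at hT
    have hT' := congrArg (res M (hk'.trans inf_le_left)) (show res M i₁.le _ = res M i₁.le _ from hT)
    rw [res_res, res_res, res_smul, res_smul, res_res] at hT'
    have h5 := congrArg ((Spec R).presheaf.germ _ x hxk') ((h k' (hkk.trans hgk)).1 hT')
    rwa [TopCat.Presheaf.germ_res_apply, TopCat.Presheaf.germ_res_apply,
      TopCat.Presheaf.germ_res_apply, TopCat.Presheaf.germ_res_apply] at h5
  · intro z
    obtain ⟨U, hU, t, rfl⟩ := M.presheaf.exists_germ_eq (x := x) z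
    obtain ⟨k, hxk, hk⟩ := hnb U hU
    obtain ⟨r, hr⟩ := (h k (hk.trans inf_le_right)).2 (res M (hk.trans inf_le_left) t)
    refine ⟨(Spec R).presheaf.germ _ x hxk r, ?_⟩
    dsimp only at hr ⊢
    rw [← germ_res M (hk.trans inf_le_right) σ hxk, ← germ_smul, hr, germ_res]

lemma genAt_σT (P : ModuleCat.{u} R) (m : P) {g : R}
    (h : LocBij (Submonoid.powers g) (LinearMap.toSpanSingleton R P m)) {x : Spec R}
    (hx : x ∈ PrimeSpectrum.basicOpen g) :
    GenAt (tilde P) (σT P m) (show x ∈ (⊤ : (Spec R).Opens) from trivial) := by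
  rw [← genAt_res (le_top : (PrimeSpectrum.basicOpen g : (Spec R).Opens) ≤ ⊤) (σT P m) hx]
  refine genAt_of_basicOpen _ (fun k hk => ?_) hx
  simp only [res_res]
  refine (bijective_basicOpen_iff P m k).mpr (h.mono _ ?_)
  rintro _ ⟨n, rfl⟩
  obtain ⟨j, hj⟩ := PrimeSpectrum.basicOpen_le_basicOpen_iff k g |>.mp hk
  obtain ⟨a, ha⟩ := Ideal.mem_span_singleton.mp hj
  exact ⟨k ^ (j * n), ⟨j * n, rfl⟩, a ^ n, by rw [pow_mul, ha, mul_pow]⟩

lemma exists_locBij_of_genAt (P : ModuleCat.{u} R) (hL : PicF.IsInvertible (tilde P)) (m : P) {x : Spec R}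
    (h : GenAt (tilde P) (σT P m) (show x ∈ (⊤ : (Spec R).Opens) from trivial)) :
    ∃ g : R, x ∈ PrimeSpectrum.basicOpen g ∧
      LocBij (Submonoid.powers g) (LinearMap.toSpanSingleton R P m) := by
  have hmem : x ∈ genSet hL (σT P m) := h
  obtain ⟨_, ⟨g, rfl⟩, hxg, hg⟩ :=
    (Opens.isBasis_iff_nbhd.mp PrimeSpectrum.isBasis_basic_opens) hmem
  refine ⟨g, hxg, (bijective_basicOpen_iff P m g).mp ?_⟩
  have := genSet_genOn hL (σT P m) _ hg
  simp only [res_res] at this
  exact this

/-- a finitely presented module, locally free of rank one, gives an invertible sheaf, and one of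
any finite generating family generates near each point -/
theorem exists_genAt_of_free (P : ModuleCat.{u} R) [Module.FinitePresentation R P]
    {ι : Type*} (b : ι → P) (hb : Submodule.span R (Set.range b) = ⊤) (x : Spec R)
    (hfree : Module.Free (Localization.AtPrime x.asIdeal) (LocalizedModule x.asIdeal.primeCompl P))
    (hrank : Module.finrank (Localization.AtPrime x.asIdeal) (LocalizedModule x.asIdeal.primeCompl P) = 1) :
    ∃ (k : ι) (g : R), x ∈ PrimeSpectrum.basicOpen g ∧
      LocBij (Submonoid.powers g) (LinearMap.toSpanSingleton R P (b k)) := by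
  let S := x.asIdeal.primeCompl
  let Rp := Localization.AtPrime x.asIdeal
  let q := LocalizedModule.mkLinearMap S P
  let e : Rp ≃ₗ[Rp] LocalizedModule S P :=
    (Module.finBasisOfFinrankEq Rp _ hrank).equivFun.symm.trans (LinearEquiv.refl _ _) |>
      fun e => (LinearEquiv.funUnique (Fin 1) Rp Rp).symm.trans e
  have hsp : Submodule.span Rp (Set.range fun k => q (b k)) = ⊤ := by
    have := span_eq_top_of_isLocalizedModule Rp S q hb
    simp only [Set.range_comp'] at this ⊢
    exact this
  obtain ⟨k, hk⟩ : ∃ k, IsUnit (e.symm (q (b k))) := by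
    by_contra hne
    push Not at hne
    have hle : Submodule.span Rp (Set.range fun k => q (b k)) ≤
        Submodule.comap e.symm.toLinearMap (IsLocalRing.maximalIdeal Rp) := by
      rw [Submodule.span_le]
      rintro _ ⟨k, rfl⟩
      exact hne k
    rw [hsp] at hle
    have h1 := hle (Submodule.mem_top (x := e 1))
    rw [Submodule.mem_comap] at h1
    simp only [LinearEquiv.coe_coe, LinearEquiv.symm_apply_apply, IsLocalRing.mem_maximalIdeal,
      mem_nonunits_iff] at h1
    exact h1 isUnit_one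
  have hb1 : Function.Bijective fun c : Rp => c • q (b k) := by
    have e2 : (fun c : Rp => c • q (b k)) = ⇑e ∘ fun c => c * e.symm (q (b k)) := funext fun c => by
      simp only [Function.comp_apply]
      rw [← smul_eq_mul, map_smul, LinearEquiv.apply_symm_apply]
    rw [e2]
    exact e.bijective.comp hk.unit.mulRight.bijective
  have hmap : Function.Bijective (IsLocalizedModule.map S (Algebra.linearMap R Rp) q
      (LinearMap.toSpanSingleton R P (b k))) := by
    have e3 : IsLocalizedModule.map S (Algebra.linearMap R Rp) q (LinearMap.toSpanSingleton R P (b k)) =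
        (LinearMap.toSpanSingleton Rp _ (q (b k))).restrictScalars R := by
      refine IsLocalizedModule.linearMap_ext S (Algebra.linearMap R Rp) q ?_
      rw [IsLocalizedModule.map_comp]
      refine LinearMap.ext_ring ?_
      simp
    rw [e3]
    exact hb1
  obtain ⟨g, hg, hgb⟩ := Module.FinitePresentation.exists_notMem_bijective _ x.asIdeal
    (Algebra.linearMap R Rp) q hmap
  exact ⟨k, g, hg, (locBij_iff _ (Submonoid.powers g)
    (LocalizedModule.mkLinearMap _ R) (LocalizedModule.mkLinearMap _ P)).mp hgb⟩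

end TwistLib

end
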